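import Cfsg.Agent.ThreeTransposition.M22Count.Pair.OrthSix
import Cfsg.Agent.LocalThree.HallJankoType.Glue

/-!
# The two small orthogonal groups
-/

set_option autoImplicit false
set_option linter.style.haveILetI false

namespace Cfsg.Lib.Leech.Co0Section

open Cfsg

theorem not_solvable_of {G : Type*} [Group G] [Finite G] [IsSimpleGroup G] (hp : ¬ (Nat.card G).Prime) :
    ¬ Group.IsSolvable G := fun h => by
  haveI : IsMulCommutative G := ⟨⟨IsSimpleGroup.comm_iff_isSolvable.mpr h⟩⟩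
  exact hp (Group.is_simple_iff_prime_card.mp inferInstance)

theorem omega_six : Nat.card (Omega (ZMod 2) (quadFormMinus 2 (ZMod 2) 1 1)) = 25920 ∧
    IsSimpleGroup (Omega (ZMod 2) (quadFormMinus 2 (ZMod 2) 1 1)) := by
  haveI : Fact (Nat.Prime 2) := ⟨Nat.prime_two⟩
  let F := GaloisField 2 2
  letI : Fintype F := Fintype.ofFinite F
  have hF : Fintype.card F = 4 := by
    rw [← Nat.card_eq_fintype_card, GaloisField.card 2 2 (by norm_num)]; norm_num
  obtain ⟨e⟩ := Cfsg.Agent.S0303.result (F := ZMod 2) (K := F) (q := 2) (ZMod.card 2) (by rw [hF]; norm_num) 1 1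
    Cfsg.Lib.ThreeTr.OrthSix.aniso
  rw [← Cfsg.Lib.ThreeTr.OrthSix.qf_coe] at e ⊢
  set Ω := Cfsg.Omega (ZMod 2) (⇑Cfsg.Lib.ThreeTr.OrthSix.qf)
  have hZ : Subgroup.center ↥Ω = ⊥ := (Subgroup.eq_bot_iff_forall _).2 fun z hz => Subtype.ext
    (Cfsg.Lib.ThreeTr.OrthSix.centralizer_omega _ fun h hh =>
      congrArg Subtype.val (Subgroup.mem_center_iff.1 hz ⟨h, hh⟩))
  let e' : ↥Ω ≃* Cfsg.PSU 4 F 2 :=
    (QuotientGroup.quotientBot.symm.trans (QuotientGroup.quotientMulEquivOfEq hZ.symm)).trans e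
  haveI := Cfsg.Agent.S0283.result (F := F) (q := 2) (by rw [hF]; norm_num) 4 (by norm_num) (by norm_num)
  refine ⟨?_, e'.isSimpleGroup⟩
  rw [Nat.card_congr e'.toEquiv]
  have h1 := Cfsg.Agent.S0280.result (F := F) (q := 2) (by rw [hF]; norm_num) 4 (by norm_num)
  norm_num [Finset.prod_range_succ, Nat.even_iff] at h1
  omega

theorem omega_four : Nat.card (Omega (ZMod 2) (quadFormMinus 1 (ZMod 2) 1 1)) = 60 ∧
    IsSimpleGroup (Omega (ZMod 2) (quadFormMinus 1 (ZMod 2) 1 1)) := by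
  obtain ⟨e⟩ := Cfsg.Lib.HallJankoType.omega_minus_four
  refine ⟨?_, e.isSimpleGroup⟩
  rw [Nat.card_congr e.toEquiv, nat_card_alternatingGroup]
  simp [Nat.factorial]

end Cfsg.Lib.Leech.Co0Section
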