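import Mathlib

/-!
# Orders of groups of permutations from successive point stabilisers
-/

set_option autoImplicit false
set_option linter.style.haveILetI false

namespace Cfsg.Lib.Leech.Co0Section

universe u v

variable {G : Type u} [Group G] {α : Type v} (f : G →* Equiv.Perm α)

/-- The elements fixing each of the given points. -/
def fixList : List α → Subgroup G
  | [] => ⊤
  | e :: l => fixList l ⊓ (MulAction.stabilizer (Equiv.Perm α) e).comap f

theorem mem_fixList {l : List α} {g : G} : g ∈ fixList f l ↔ ∀ x ∈ l, f g x = x := by
  induction l with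
  | nil => simp [fixList]
  | cons e l ih => simp [fixList, Subgroup.mem_inf, ih, and_comm]

/-- Each point moves inside the given set; at the end only the identity is left. -/
def UpOK (H : Subgroup G) : List α → List (α × Finset α) → Prop
  | done, [] => ∀ h ∈ H, (∀ x ∈ done, f h x = x) → h = 1
  | done, (e, S) :: r => (∀ h ∈ H, (∀ x ∈ done, f h x = x) → f h e ∈ S) ∧ UpOK H (e :: done) r

/-- Each point has enough images. -/
def LowOK (H : Subgroup G) : List α → List (α × List G) → Prop
  | _, [] => True
  | done, (e, ws) :: r => (∀ g ∈ ws, g ∈ H ∧ ∀ x ∈ done, f g x = x) ∧ (ws.map fun g => f g e).Nodup ∧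
      LowOK H (e :: done) r

variable [Finite G]

theorem card_step (H : Subgroup G) (done : List α) (e : α) :
    Nat.card (H ⊓ fixList f done : Subgroup G) =
      (Set.range fun h : (H ⊓ fixList f done : Subgroup G) => f h e).ncard *
        Nat.card (H ⊓ fixList f (e :: done) : Subgroup G) := by
  set K : Subgroup G := H ⊓ fixList f done with hK
  letI : MulAction K α := MulAction.compHom α (f.comp K.subtype)
  have h1 := Subgroup.card_mul_index (MulAction.stabilizer K e)
  rw [MulAction.index_stabilizer] at h1
  rw [← h1, mul_comm]
  refine congrArg₂ _ rfl ?_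
  refine Nat.card_congr
    { toFun := fun k => ⟨((k : K) : G), (k : K).2.1, (k : K).2.2, k.2⟩
      invFun := fun k => ⟨⟨(k : G), k.2.1, k.2.2.1⟩, k.2.2.2⟩
      left_inv := fun k => rfl
      right_inv := fun k => rfl }

theorem card_le_levels (H : Subgroup G) : ∀ (levs : List (α × Finset α)) (done : List α), UpOK f H done levs →
    Nat.card (H ⊓ fixList f done : Subgroup G) ≤ (levs.map fun L => L.2.card).prod
  | [], done, h => by
    haveI : Subsingleton (H ⊓ fixList f done : Subgroup G) := by
      refine ⟨fun a b => ?_⟩
      have ha := h a a.2.1 ((mem_fixList f).mp a.2.2)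
      have hb := h b b.2.1 ((mem_fixList f).mp b.2.2)
      exact Subtype.ext (ha.trans hb.symm)
    rw [List.map_nil, List.prod_nil]
    exact (Nat.card_of_subsingleton (1 : (H ⊓ fixList f done : Subgroup G))).le
  | (e, S) :: r, done, h => by
    rw [card_step f H done e, List.map_cons, List.prod_cons]
    refine Nat.mul_le_mul ?_ (card_le_levels H r (e :: done) h.2)
    rw [← Set.ncard_coe_finset]
    exact Set.ncard_le_ncard (Set.range_subset_iff.mpr fun k => h.1 k k.2.1 ((mem_fixList f).mp k.2.2))

theorem card_ge_levels (H : Subgroup G) : ∀ (levs : List (α × List G)) (done : List α), LowOK f H done levs →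
    (levs.map fun L => L.2.length).prod ≤ Nat.card (H ⊓ fixList f done : Subgroup G)
  | [], done, _ => by
    rw [List.map_nil, List.prod_nil]
    exact Nat.card_pos
  | (e, ws) :: r, done, h => by
    classical
    rw [card_step f H done e, List.map_cons, List.prod_cons]
    refine Nat.mul_le_mul ?_ (card_ge_levels H r (e :: done) h.2.2)
    rw [← List.length_map (f := fun g => f g e), ← List.toFinset_card_of_nodup h.2.1, ← Set.ncard_coe_finset]
    refine Set.ncard_le_ncard (fun x hx => ?_) (Set.finite_range _)
    rw [List.coe_toFinset, Set.mem_setOf_eq, List.mem_map] at hx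
    obtain ⟨g, hg, rfl⟩ := hx
    exact ⟨⟨g, (h.1 g hg).1, (mem_fixList f).mpr (h.1 g hg).2⟩, rfl⟩

end Cfsg.Lib.Leech.Co0Section
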