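import Cfsg.Agent.Leech.Co0Section.Coords
import Cfsg.Agent.Leech.Co0Section.Bounds

/-!
# The centraliser acting on the fixed points

The centraliser of the element inside the involution centraliser maps onto the orthogonal group of the fixed points,
with kernel the fixed points extended by the element.
-/

set_option autoImplicit false
set_option linter.style.haveILetI false

namespace Cfsg.Lib.Leech.Co0Section

open Cfsg Cfsg.Lib.Golay Cfsg.Lib.Leech Cfsg.Lib.Leech.Co1Inv Stab Matrix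
open Cfsg.Lib.Leech.Mult (el)
open Cfsg.Lib.Classical.OrthH1 (lN lM lM_mulVec exists_code ofBit ofBit_xor)
open scoped commutatorElement

variable {ι : Type} [Fintype ι] [DecidableEq ι]

theorem dec_inj {n : ℕ} (e : ι ≃ Fin n) {x y : ℕ} (hx : x < 2 ^ n) (hy : y < 2 ^ n)
    (he : Classical.OrthH1.dec e x = Classical.OrthH1.dec e y) : x = y := by
  refine Nat.eq_of_testBit_eq fun i => ?_
  by_cases hi : i < n
  · have := congrFun he (e.symm ⟨i, hi⟩)
    simp only [Classical.OrthH1.dec, Equiv.apply_symm_apply] at this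
    revert this
    cases x.testBit i <;> cases y.testBit i <;> simp
  · rw [Nat.testBit_lt_two_pow (lt_of_lt_of_le hx (Nat.pow_le_pow_right (by norm_num) (not_lt.mp hi))),
      Nat.testBit_lt_two_pow (lt_of_lt_of_le hy (Nat.pow_le_pow_right (by norm_num) (not_lt.mp hi)))]

/-- The code of a vector. -/
noncomputable def enc {n : ℕ} (e : ι ≃ Fin n) (v : ι → ZMod 2) : ℕ := (exists_code e v).choose

theorem enc_lt {n : ℕ} (e : ι ≃ Fin n) (v : ι → ZMod 2) : enc e v < 2 ^ n := (exists_code e v).choose_spec.1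

theorem dec_enc {n : ℕ} (e : ι ≃ Fin n) (v : ι → ZMod 2) : Classical.OrthH1.dec e (enc e v) = v :=
  (exists_code e v).choose_spec.2

theorem enc_dec {n : ℕ} (e : ι ≃ Fin n) {x : ℕ} (hx : x < 2 ^ n) : enc e (Classical.OrthH1.dec e x) = x :=
  dec_inj e (enc_lt e _) hx (dec_enc e _)

theorem enc_add {n : ℕ} (e : ι ≃ Fin n) (v w : ι → ZMod 2) : enc e (v + w) = enc e v ^^^ enc e w :=
  dec_inj e (enc_lt e _) (Nat.xor_lt_two_pow (enc_lt e v) (enc_lt e w))
    (by rw [dec_enc, Classical.OrthH1.dec_xor, dec_enc, dec_enc])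

theorem dec_two_pow {n : ℕ} (e : ι ≃ Fin n) (i : ι) :
    Classical.OrthH1.dec e (2 ^ (e i : ℕ)) = Pi.single i 1 := by
  funext j
  simp only [Classical.OrthH1.dec, Nat.testBit_two_pow]
  by_cases h : j = i
  · subst h; simp
  · rw [Pi.single_eq_of_ne h, if_neg]
    simp only [decide_eq_true_eq]
    exact fun hv => h (e.injective (Fin.ext hv.symm))

/-- An isometry as a permutation of the vectors. -/
def vecPerm (Q : (ι → ZMod 2) → ZMod 2) : isometryGroup (ZMod 2) Q →* Equiv.Perm (ι → ZMod 2) :=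
  MonoidHom.mk'
    (fun g =>
      { toFun := fun v => ((g : GL ι (ZMod 2)) : Matrix ι ι (ZMod 2)) *ᵥ v
        invFun := fun v => (((g⁻¹ : isometryGroup (ZMod 2) Q) : GL ι (ZMod 2)) : Matrix ι ι (ZMod 2)) *ᵥ v
        left_inv := fun v => by
          show _ *ᵥ (_ *ᵥ v) = v
          rw [Matrix.mulVec_mulVec, ← Units.val_mul, ← Subgroup.coe_mul, inv_mul_cancel, OneMemClass.coe_one,
            Units.val_one, Matrix.one_mulVec]
        right_inv := fun v => by
          show _ *ᵥ (_ *ᵥ v) = v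
          rw [Matrix.mulVec_mulVec, ← Units.val_mul, ← Subgroup.coe_mul, mul_inv_cancel, OneMemClass.coe_one,
            Units.val_one, Matrix.one_mulVec] })
    fun g h => Equiv.ext fun v => by
      show _ *ᵥ v = _ *ᵥ (_ *ᵥ v)
      rw [Matrix.mulVec_mulVec, ← Units.val_mul, ← Subgroup.coe_mul]

theorem vecPerm_apply (Q : (ι → ZMod 2) → ZMod 2) (g : isometryGroup (ZMod 2) Q) (v : ι → ZMod 2) :
    vecPerm Q g v = ((g : GL ι (ZMod 2)) : Matrix ι ι (ZMod 2)) *ᵥ v := rfl

theorem vecPerm_injective (Q : (ι → ZMod 2) → ZMod 2) {g : isometryGroup (ZMod 2) Q}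
    (h : ∀ v, vecPerm Q g v = v) : g = 1 :=
  Subtype.ext (Units.ext (Matrix.ext_iff_mulVec.mpr fun v => by rw [← vecPerm_apply]; simpa using h v))

theorem isometry_map (Q : (ι → ZMod 2) → ZMod 2) (g : isometryGroup (ZMod 2) Q) (v : ι → ZMod 2) :
    Q (vecPerm Q g v) = Q v := g.2 v v

variable {D : Data}

/-- The centraliser of the element in the involution centraliser. -/
noncomputable def Data.KK (D : Data) : Subgroup Cz := Subgroup.centralizer ({D.a1} : Set Cz)

theorem Data.mem_KK {k : Cz} : k ∈ D.KK ↔ Commute D.a1 k :=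
  Subgroup.mem_centralizer_singleton_iff.trans eq_comm

namespace Data.Valid

variable (h : D.Valid)
include h

theorem conj_exists (k : D.KK) {x : ℕ} (hx : x < 2 ^ D.n) :
    ∃ y < 2 ^ D.n, (QuotientGroup.mk ((k : Cz) * D.pz x * (k : Cz)⁻¹) : Cbar) = D.pb y := by
  have hk := Data.mem_KK.mp k.2
  obtain ⟨y, hy, e⟩ := h.fixed_cases (Q_normal.conj_mem _ (h.pz_Q x) (k : Cz))
    ((hk.mul_right (h.a1_commute hx)).mul_right hk.inv_right)
  exact ⟨y, hy, bar_eq_iff.mpr e⟩

/-- The image of a coded vector under conjugation. -/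
noncomputable def cc (k : D.KK) (x : ℕ) : ℕ :=
  if hx : x < 2 ^ D.n then (h.conj_exists k hx).choose else 0

theorem cc_lt (k : D.KK) (x : ℕ) : h.cc k x < 2 ^ D.n := by
  rw [cc]
  split
  next hx => exact (h.conj_exists k hx).choose_spec.1
  next => positivity

theorem cc_spec (k : D.KK) {x : ℕ} (hx : x < 2 ^ D.n) :
    (QuotientGroup.mk (k : Cz) : Cbar) * D.pb x * (QuotientGroup.mk (k : Cz))⁻¹ = D.pb (h.cc k x) := by
  rw [cc, dif_pos hx, ← (h.conj_exists k hx).choose_spec.2]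
  rfl

theorem cc_eq (k : D.KK) {x y : ℕ} (hx : x < 2 ^ D.n) (hy : y < 2 ^ D.n)
    (e : (QuotientGroup.mk (k : Cz) : Cbar) * D.pb x * (QuotientGroup.mk (k : Cz))⁻¹ = D.pb y) : h.cc k x = y :=
  h.pb_inj (lt_of_lt_of_le (h.cc_lt k x) h.two_pow_n) (lt_of_lt_of_le hy h.two_pow_n)
    ((h.cc_spec k hx).symm.trans e)

theorem cc_xor (k : D.KK) {x y : ℕ} (hx : x < 2 ^ D.n) (hy : y < 2 ^ D.n) :
    h.cc k (x ^^^ y) = h.cc k x ^^^ h.cc k y := by
  refine h.cc_eq k (Nat.xor_lt_two_pow hx hy) (Nat.xor_lt_two_pow (h.cc_lt k x) (h.cc_lt k y)) ?_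
  rw [h.pb_xor, h.pb_xor, ← h.cc_spec k hx, ← h.cc_spec k hy]
  group

theorem cc_mul (k k' : D.KK) {x : ℕ} (hx : x < 2 ^ D.n) : h.cc (k * k') x = h.cc k (h.cc k' x) := by
  refine h.cc_eq _ hx (h.cc_lt k _) ?_
  rw [← h.cc_spec k (h.cc_lt k' x), ← h.cc_spec k' hx, Subgroup.coe_mul, QuotientGroup.mk_mul]
  group

theorem cc_one {x : ℕ} (hx : x < 2 ^ D.n) : h.cc 1 x = x :=
  h.cc_eq _ hx hx (by rw [OneMemClass.coe_one, QuotientGroup.mk_one, one_mul, inv_one, mul_one])

theorem cc_qN (k : D.KK) {x : ℕ} (hx : x < 2 ^ D.n) : D.qN (h.cc k x) = D.qN x := by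
  have h1 := h.sq_of_bar (h.cc_lt k x) (q := (k : Cz) * D.pz x * (k : Cz)⁻¹) (h.cc_spec k hx)
  rw [show (k : Cz) * D.pz x * (k : Cz)⁻¹ * ((k : Cz) * D.pz x * (k : Cz)⁻¹) =
    (k : Cz) * (D.pz x * D.pz x) * (k : Cz)⁻¹ by group, h.pz_sq hx] at h1
  revert h1
  cases D.qN x <;> cases D.qN (h.cc k x) <;> simp [zC_ne, zC_ne.symm, (commute_zC (k : Cz)).eq]

variable (e : ι ≃ Fin D.n) (Q : (ι → ZMod 2) → ZMod 2)
  (hq : ∀ x < 2 ^ D.n, Q (Classical.OrthH1.dec e x) = ofBit (D.qN x))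

/-- The linear map of conjugation. -/
noncomputable def linK (k : D.KK) : (ι → ZMod 2) →ₗ[ZMod 2] (ι → ZMod 2) :=
  (AddMonoidHom.mk' (fun v => Classical.OrthH1.dec e (h.cc k (enc e v))) fun v w => by
    rw [enc_add, h.cc_xor k (enc_lt e v) (enc_lt e w), Classical.OrthH1.dec_xor]).toZModLinearMap 2

theorem linK_apply (k : D.KK) (v : ι → ZMod 2) :
    h.linK e k v = Classical.OrthH1.dec e (h.cc k (enc e v)) := rfl

/-- The matrices of conjugation. -/
noncomputable def matK : D.KK →* GL ι (ZMod 2) :=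
  MonoidHom.toHomUnits (MonoidHom.mk
    ⟨fun k => LinearMap.toMatrix' (h.linK e k), by
      rw [show h.linK e 1 = LinearMap.id from LinearMap.ext fun v => by
        rw [linK_apply, h.cc_one (enc_lt e v), dec_enc]; rfl, LinearMap.toMatrix'_id]⟩
    fun a b => by
      show LinearMap.toMatrix' (h.linK e (a * b)) = _
      rw [show h.linK e (a * b) = (h.linK e a).comp (h.linK e b) from LinearMap.ext fun v => by
        rw [LinearMap.comp_apply, linK_apply, linK_apply, linK_apply, enc_dec e (h.cc_lt b _),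
          h.cc_mul a b (enc_lt e v)], LinearMap.toMatrix'_comp])

theorem matK_mulVec (k : D.KK) (v : ι → ZMod 2) :
    (h.matK e k : Matrix ι ι (ZMod 2)) *ᵥ v = Classical.OrthH1.dec e (h.cc k (enc e v)) :=
  LinearMap.toMatrix'_mulVec (h.linK e k) v

include hq

theorem matK_mem (k : D.KK) : h.matK e k ∈ isometryGroup (ZMod 2) Q := fun v _ => by
  show Q ((h.matK e k : Matrix ι ι (ZMod 2)) *ᵥ v) = Q v
  rw [matK_mulVec, hq _ (h.cc_lt k _), h.cc_qN k (enc_lt e v), ← hq _ (enc_lt e v), dec_enc]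

/-- The action on the fixed points. -/
noncomputable def theta : D.KK →* isometryGroup (ZMod 2) Q := (h.matK e).codRestrict _ (h.matK_mem e Q hq)

theorem theta_dec (k : D.KK) {x : ℕ} (hx : x < 2 ^ D.n) :
    vecPerm Q (h.theta e Q hq k) (Classical.OrthH1.dec e x) = Classical.OrthH1.dec e (h.cc k x) := by
  rw [vecPerm_apply]
  show (h.matK e k : Matrix ι ι (ZMod 2)) *ᵥ _ = _
  rw [matK_mulVec, enc_dec e hx]

theorem theta_eq_one_iff (k : D.KK) :
    h.theta e Q hq k = 1 ↔ ∀ x < 2 ^ D.n, h.cc k x = x := by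
  constructor
  · intro hk x hx
    have := h.theta_dec e Q hq k hx
    rw [hk, map_one, Equiv.Perm.one_apply] at this
    exact (dec_inj e hx (h.cc_lt k x) this).symm
  · intro hk
    refine vecPerm_injective Q fun v => ?_
    obtain ⟨x, hx, rfl⟩ := exists_code e v
    rw [h.theta_dec e Q hq k hx, hk x hx]

omit hq

theorem hd_ok {k : ℕ} (hk : k < D.hs.length) : cz (D.hd k).1 ∈ D.KK := by
  obtain ⟨h1, h2, -⟩ := h.hs_ok k hk
  refine Data.mem_KK.mpr ((h.eq_of_check (all_ok_append (ok_of_inCz h.a_ok) (ok_of_inCz h1))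
    (all_ok_append (ok_of_inCz h1) (ok_of_inCz h.a_ok)) ?_ ?_).mp h2)
  · rw [Subgroup.coe_mul, elC_append, h.a1_val, cz_val h1]
  · rw [Subgroup.coe_mul, elC_append, h.a1_val, cz_val h1]

/-- A member of the centraliser. -/
noncomputable def hk (k : ℕ) : D.KK := if hk : k < D.hs.length then ⟨cz (D.hd k).1, h.hd_ok hk⟩ else 1

include hq

theorem theta_hk {k : ℕ} (hk' : k < D.hs.length) {x : ℕ} (hx : x < 2 ^ D.n) :
    vecPerm Q (h.theta e Q hq (h.hk k)) (Classical.OrthH1.dec e x) =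
      Classical.OrthH1.dec e (lN D.n (D.hd k).2.1 x) := by
  obtain ⟨h1, -, h3, h4⟩ := h.hs_ok k hk'
  rw [← lM_mulVec e (D.hd k).2.1 x, vecPerm_apply]
  refine congrFun (congrArg Matrix.mulVec ?_) _
  ext a b
  have hb : (e b : ℕ) < D.n := (e b).isLt
  have hcc : h.cc (h.hk k) (2 ^ (e b : ℕ)) = (D.hd k).2.1.getD (e b) 0 := by
    obtain ⟨hlt, hchk⟩ := h3 _ hb
    refine h.cc_eq _ (Nat.pow_lt_pow_right (by norm_num) hb) hlt ?_
    rw [hk, dif_pos hk', mul_inv_eq_iff_eq_mul]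
    obtain ⟨p1, p2⟩ := h.pw_spec ((D.hd k).2.1.getD (e b) 0)
    obtain ⟨q1, q2⟩ := h.pw_spec (2 ^ (e b : ℕ))
    have hbw := h.b_ok (e b) (lt_of_lt_of_le hb h.n_le)
    have hsingle : D.pz (2 ^ (e b : ℕ)) = cz (D.bw (e b)) := by
      have key : ∀ j < 8, ∀ f : ℕ → Cz,
          ((List.range 8).map fun i => if (2 ^ j).testBit i then f i else 1).prod = f j := by
        intro j hj f
        interval_cases j <;> simp [List.range_succ, Nat.testBit]
      exact key _ (lt_of_lt_of_le hb h.n_le) fun i => cz (D.bw i)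
    show (QuotientGroup.mk (cz (D.hd k).1 * D.pz (2 ^ (e b : ℕ))) : Cbar) =
      QuotientGroup.mk (D.pz ((D.hd k).2.1.getD (e b) 0) * cz (D.hd k).1)
    rw [hsingle]
    refine (h.bar_of_check (all_ok_append (ok_of_inCz h1) (ok_of_inCz hbw.1)) (all_ok_append p1 (ok_of_inCz h1))
      ?_ ?_).mp ?_
    · rw [Subgroup.coe_mul, elC_append, cz_val h1, cz_val hbw.1]
    · rw [Subgroup.coe_mul, elC_append, cz_val h1, p2]
    · rw [← List.append_assoc]; exact hchk
  have := congrFun (h.theta_dec e Q hq (h.hk k) (Nat.pow_lt_pow_right (by norm_num) hb : 2 ^ (e b : ℕ) < 2 ^ D.n)) a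
  rw [hcc, vecPerm_apply, dec_two_pow, Matrix.mulVec_single_one] at this
  exact this.trans (by simp [lM])

theorem theta_hk_inv {k : ℕ} (hk' : k < D.hs.length) {x : ℕ} (hx : x < 2 ^ D.n) :
    vecPerm Q (h.theta e Q hq (h.hk k))⁻¹ (Classical.OrthH1.dec e x) =
      Classical.OrthH1.dec e (lN D.n (D.hd k).2.2 x) := by
  obtain ⟨-, -, -, h4⟩ := h.hs_ok k hk'
  rw [map_inv, Equiv.Perm.inv_def, Equiv.symm_apply_eq, h.theta_hk e Q hq hk' (h4 x hx).2.1, (h4 x hx).2.2]

omit hq

/-- A commutator in the centraliser. -/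
noncomputable def com (p : ℕ) : D.KK := ⁅h.hk (D.pairs.getD p (0, 0)).1, h.hk (D.pairs.getD p (0, 0)).2⁆

include hq

theorem theta_com {p : ℕ} (hp : p < D.pairs.length) {x : ℕ} (hx : x < 2 ^ D.n) :
    D.comApp p x < 2 ^ D.n ∧ vecPerm Q (h.theta e Q hq (h.com p)) (Classical.OrthH1.dec e x) =
      Classical.OrthH1.dec e (D.comApp p x) := by
  obtain ⟨hi, hj⟩ := h.pairs_ok _ (by rw [List.getD_eq_getElem _ _ hp]; exact List.getElem_mem hp :
    D.pairs.getD p (0, 0) ∈ D.pairs)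
  set i := (D.pairs.getD p (0, 0)).1 with hi'
  set j := (D.pairs.getD p (0, 0)).2 with hj'
  obtain ⟨-, -, -, a4⟩ := h.hs_ok i hi
  obtain ⟨-, -, -, b4⟩ := h.hs_ok j hj
  set y1 := lN D.n (D.hd j).2.2 x with e1
  have l1 : y1 < 2 ^ D.n := (b4 x hx).2.1
  set y2 := lN D.n (D.hd i).2.2 y1 with e2
  have l2 : y2 < 2 ^ D.n := (a4 y1 l1).2.1
  set y3 := lN D.n (D.hd j).2.1 y2 with e3
  have l3 : y3 < 2 ^ D.n := (b4 y2 l2).1
  refine ⟨(a4 y3 l3).1, ?_⟩
  rw [com, commutatorElement_def, map_mul, map_mul, map_mul, map_inv, map_inv, map_mul, map_mul, map_mul,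
    Equiv.Perm.mul_apply, Equiv.Perm.mul_apply, Equiv.Perm.mul_apply, h.theta_hk_inv e Q hq hj hx, ← e1,
    h.theta_hk_inv e Q hq hi l1, ← e2, h.theta_hk e Q hq hj l2, ← e3, h.theta_hk e Q hq hi l3]
  rfl

theorem theta_word : ∀ w : List ℕ, (∀ p ∈ w, p < D.pairs.length) → ∀ x < 2 ^ D.n,
    D.wImg w x < 2 ^ D.n ∧ vecPerm Q (h.theta e Q hq (w.map h.com).prod) (Classical.OrthH1.dec e x) =
      Classical.OrthH1.dec e (D.wImg w x)
  | [], _, x, hx => ⟨hx, by simp [Data.wImg]⟩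
  | p :: w, hw, x, hx => by
    obtain ⟨h1, h2⟩ := theta_word w (fun q hq' => hw q (List.mem_cons_of_mem _ hq')) x hx
    obtain ⟨h3, h4⟩ := h.theta_com e Q hq (hw p List.mem_cons_self) h1
    refine ⟨h3, ?_⟩
    rw [List.map_cons, List.prod_cons, map_mul, map_mul, Equiv.Perm.mul_apply, h2, h4]
    rfl

/-- The number certified by the levels. -/
def size (_ : D.Valid) : ℕ := (D.levels.map fun L => L.2.length).prod

/-- The subgroup generated by the commutators. -/
noncomputable def comGrp : Subgroup (isometryGroup (ZMod 2) Q) :=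
  Subgroup.closure (Set.range fun p => h.theta e Q hq (h.com p))

theorem low_of_chk : ∀ (levs : List (ℕ × List (List ℕ))) (done : List ℕ), (∀ c ∈ done, c < 2 ^ D.n) →
    D.lowChk done levs = true →
    ∃ L : List ((ι → ZMod 2) × List (isometryGroup (ZMod 2) Q)),
      LowOK (vecPerm Q) (h.comGrp e Q hq) (done.map (Classical.OrthH1.dec e)) L ∧
        (L.map fun a => a.2.length).prod = (levs.map fun a => a.2.length).prod
  | [], _, _, _ => ⟨[], trivial, rfl⟩
  | (c, ws) :: r, done, hd, hc => by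
    simp only [Data.lowChk, Bool.and_eq_true, decide_eq_true_eq, List.all_eq_true, beq_iff_eq] at hc
    obtain ⟨⟨⟨hclt, hws⟩, hnd⟩, hr⟩ := hc
    obtain ⟨L, hL, hprod⟩ := low_of_chk r (c :: done) (by simpa [hclt] using hd) hr
    refine ⟨(Classical.OrthH1.dec e c, ws.map fun w => h.theta e Q hq (w.map h.com).prod) :: L,
      ⟨?_, ?_, hL⟩, by simp [hprod]⟩
    · intro g hg
      obtain ⟨w, hw, rfl⟩ := List.mem_map.mp hg
      refine ⟨?_, fun v hv => ?_⟩
      · rw [map_list_prod, List.map_map]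
        exact Subgroup.list_prod_mem _ fun z hz => by
          obtain ⟨p, -, rfl⟩ := List.mem_map.mp hz
          exact Subgroup.subset_closure ⟨p, rfl⟩
      · obtain ⟨x, hx, rfl⟩ := List.mem_map.mp hv
        rw [(h.theta_word e Q hq w (hws w hw).1 x (hd x hx)).2, (hws w hw).2 x hx]
    · rw [List.map_map]
      have : ws.map ((fun g => vecPerm Q g (Classical.OrthH1.dec e c)) ∘ fun w => h.theta e Q hq (w.map h.com).prod) =
          (ws.map fun w => D.wImg w c).map (Classical.OrthH1.dec e) := by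
        rw [List.map_map]
        exact List.map_congr_left fun w hw => (h.theta_word e Q hq w (hws w hw).1 c hclt).2
      rw [this]
      refine hnd.map_on ?_
      intro a ha b hb hab
      obtain ⟨u, hu, rfl⟩ := List.mem_map.mp ha
      obtain ⟨v, hv, rfl⟩ := List.mem_map.mp hb
      exact dec_inj e (h.theta_word e Q hq u (hws u hu).1 c hclt).1 (h.theta_word e Q hq v (hws v hv).1 c hclt).1 hab

theorem size_le_comGrp : h.size ≤ Nat.card (h.comGrp e Q hq) := by
  obtain ⟨L, hL, hprod⟩ := h.low_of_chk e Q hq D.levels [] (by simp) h.low_ok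
  refine le_of_eq_of_le hprod.symm ((card_ge_levels (vecPerm Q) (h.comGrp e Q hq) L [] hL).trans ?_)
  exact Subgroup.card_le_of_le inf_le_left

end Data.Valid

end Cfsg.Lib.Leech.Co0Section
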