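import Cfsg.Agent.Components.Cores
import Cfsg.Agent.Components.GenFitting
import Cfsg.Prelude.Def_Local

/-!
# Simplicity from the centraliser of an involution

A finite group with an involution whose centraliser is an extraspecial group extended by a simple group, the
involution not weakly closed in the extraspecial group, and no smaller normal subgroup of the centraliser containing
the conjugate, is simple: the centraliser alone rules out both odd and proper even normal subgroups.
-/

set_option autoImplicit false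
set_option linter.style.haveILetI false

namespace Cfsg.Lib.Leech.Co0Section

open Subgroup
open scoped commutatorElement

universe u

variable {G : Type u} [Group G]

/-- The centraliser of an element. -/
abbrev Cen (z : G) : Subgroup G := centralizer ({z} : Set G)

/-- An element inside its centraliser. -/
def zc (z : G) : Cen z := ⟨z, mem_centralizer_singleton_iff.mpr rfl⟩

theorem commute_zc {z : G} (x : Cen z) : Commute x (zc z) :=
  Subtype.ext (mem_centralizer_singleton_iff.mp x.2)

theorem zc_conj {z : G} (x : Cen z) : (x : G) * z * (x : G)⁻¹ = z :=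
  mul_inv_eq_iff_eq_mul.mpr (mem_centralizer_singleton_iff.mp x.2)

/-- An extraspecial normal subgroup, containing its centraliser, of the centraliser of an involution. -/
structure Loc (z : G) (Q : Subgroup (Cen z)) : Prop where
  order_z : orderOf z = 2
  isP : IsPGroup 2 Q
  z_mem : zc z ∈ Q
  comm : ∀ a ∈ Q, ∀ b ∈ Q, ⁅a, b⁆ = 1 ∨ ⁅a, b⁆ = zc z
  cen : ∀ c ∈ Q, (∀ a ∈ Q, Commute a c) → c = 1 ∨ c = zc z
  large : 2 ^ 5 ≤ Nat.card Q
  self : centralizer (Q : Set (Cen z)) ≤ Q

variable [Finite G] {z : G} {Q : Subgroup (Cen z)}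

theorem Loc.z_ne (h : Loc z Q) : z ≠ 1 := fun e => by
  have := h.order_z
  rw [e, orderOf_one] at this
  omega

theorem Loc.zc_ne (h : Loc z Q) : zc z ≠ 1 := fun e => h.z_ne (congrArg Subtype.val e)

theorem Loc.z_sq (h : Loc z Q) : z * z = 1 := by
  rw [← pow_two, ← h.order_z, pow_orderOf_eq_one]

theorem Loc.card_center (h : Loc z Q) {H : Subgroup Q}
    (hH : ∀ x ∈ H, ∀ a ∈ Q, Commute a (x : Cen z)) : Nat.card H ≤ 2 := by
  classical
  refine (Nat.card_le_card_of_injective (fun x : H => if ((x : Q) : Cen z) = 1 then true else false) ?_).trans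
    (by simp)
  intro x y e
  refine Subtype.ext (Subtype.ext ?_)
  rcases h.cen _ (x : Q).2 (hH x x.2) with hx | hx <;> rcases h.cen _ (y : Q).2 (hH y y.2) with hy | hy <;>
    rw [hx, hy] <;> simp [hx, hy, h.zc_ne] at e

theorem Loc.exists_pair [Q.Normal] (h : Loc z Q) {w : Cen z} (hw : w ∈ Q) :
    ∃ a ∈ Q, ∃ b ∈ Q, Commute a w ∧ Commute b w ∧ ⁅a, b⁆ = zc z := by
  classical
  have key : ∀ c ∈ Q, ∀ a ∈ Q, ∀ b ∈ Q, ⁅a * b, c⁆ = ⁅a, c⁆ * ⁅b, c⁆ := by
    intro c hc a ha b hb
    have hz : Commute a ⁅b, c⁆ := by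
      rcases h.comm b hb c hc with e | e <;> rw [e]
      · exact Commute.one_right a
      · exact commute_zc a
    have hz' : Commute ⁅a, c⁆ ⁅b, c⁆ := by
      rcases h.comm b hb c hc with e | e <;> rw [e]
      · exact Commute.one_right _
      · exact commute_zc _
    calc ⁅a * b, c⁆ = a * ⁅b, c⁆ * a⁻¹ * ⁅a, c⁆ := by simp only [commutatorElement_def]; group
      _ = ⁅b, c⁆ * ⁅a, c⁆ := by rw [hz.eq, mul_inv_cancel_right]
      _ = _ := hz'.eq.symm
  let ψ : ∀ c ∈ Q, Q →* Cen z := fun c hc =>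
    MonoidHom.mk' (fun a => ⁅(a : Cen z), c⁆) fun a b => key c hc a a.2 b b.2
  have hrange : ∀ c (hc : c ∈ Q), Nat.card (ψ c hc).range ≤ 2 := fun c hc => by
    refine (Nat.card_le_card_of_injective (fun x : (ψ c hc).range => if (x : Cen z) = 1 then true else false)
      fun x y e => Subtype.ext ?_).trans (by simp)
    obtain ⟨a, ha⟩ := x.2
    obtain ⟨b, hb⟩ := y.2
    rcases h.comm a a.2 c hc with e1 | e1 <;> rcases h.comm b b.2 c hc with e2 | e2 <;>
      simp only [ψ, MonoidHom.mk'_apply] at ha hb <;> rw [e1] at ha <;> rw [e2] at hb <;>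
      simp [← ha, ← hb, h.zc_ne] at e ⊢
  have hker : ∀ c (hc : c ∈ Q) a, a ∈ (ψ c hc).ker ↔ Commute (a : Cen z) c := fun c hc a =>
    commutatorElement_eq_one_iff_mul_comm
  by_contra! hno
  set X := (ψ w hw).ker with hX
  have hX' : 16 ≤ Nat.card X := by
    have h1 := Subgroup.card_mul_index X
    rw [hX, Subgroup.index_ker] at h1
    rw [← hX] at h1
    have h2 := hrange w hw
    have h3 := h.large
    nlinarith
  have hXc : ∀ a ∈ X, ∀ b ∈ X, Commute (a : Cen z) b := fun a ha b hb => by
    refine commutatorElement_eq_one_iff_mul_comm.mp ((h.comm a a.2 b b.2).resolve_right ?_)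
    exact hno a a.2 b b.2 ((hker w hw a).mp ha) ((hker w hw b).mp hb)
  by_cases hall : ∀ u : Q, u ∈ X
  · have := h.card_center (H := ⊤) fun x _ a ha => hXc ⟨a, ha⟩ (hall _) x (hall x)
    have h3 := h.large
    rw [Subgroup.card_top] at this
    omega
  push Not at hall
  obtain ⟨u, hu⟩ := hall
  set Y := X ⊓ (ψ u u.2).ker with hY
  have hYc : Nat.card Y ≤ 2 := by
    refine h.card_center fun x hx a ha => ?_
    by_cases haX : (⟨a, ha⟩ : Q) ∈ X
    · exact hXc ⟨a, ha⟩ haX x hx.1
    · have hau : (⟨a, ha⟩ : Q) * u ∈ X := by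
        have hne : ∀ c : Q, c ∉ X → ⁅(c : Cen z), w⁆ = zc z := fun c hc =>
          (h.comm c c.2 w hw).resolve_left fun e => hc e
        show ⁅a * (u : Cen z), w⁆ = 1
        rw [key w hw a ha u u.2, hne ⟨a, ha⟩ haX, hne u hu]
        exact Subtype.ext h.z_sq
      have h1 : Commute (x : Cen z) (a * u) := hXc x hx.1 _ hau
      have h2 : Commute (x : Cen z) u := (hker u u.2 x).mp hx.2
      have h3 := h1.mul_right h2.inv_right
      rw [mul_inv_cancel_right] at h3
      exact h3.symm
  let f : X →* Cen z := (ψ u u.2).comp X.subtype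
  have h4 := Subgroup.card_mul_index f.ker
  rw [Subgroup.index_ker] at h4
  have h5 : Nat.card f.range ≤ 2 :=
    (Nat.card_mono (Set.toFinite _) (by rintro _ ⟨x, rfl⟩; exact ⟨x, rfl⟩)).trans (hrange u u.2)
  have h6 : Nat.card f.ker ≤ 2 := by
    refine le_trans ?_ hYc
    exact Nat.card_le_card_of_injective (fun x : f.ker => (⟨((x : X) : Q), (x : X).2, x.2⟩ : Y))
      fun x y e => by
        have h7 := congrArg (fun q : Y => (q : Q)) e
        exact Subtype.ext (Subtype.ext h7)
  nlinarith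

theorem exists_fixed_in_normal {S : Subgroup G} (hS : IsPGroup 2 S) {N : Subgroup G} [N.Normal]
    (hne : S ⊓ N ≠ ⊥) : ∃ c ∈ S ⊓ N, c ≠ 1 ∧ ∀ x ∈ S, Commute x c := by
  haveI : Fact (Nat.Prime 2) := ⟨Nat.prime_two⟩
  letI : MulAction S (S ⊓ N : Subgroup G) :=
    { smul := fun x c => ⟨(x : G) * c * (x : G)⁻¹, Subgroup.mem_inf.mpr
        ⟨S.mul_mem (S.mul_mem x.2 (Subgroup.mem_inf.mp c.2).1) (S.inv_mem x.2),
          (inferInstance : N.Normal).conj_mem _ (Subgroup.mem_inf.mp c.2).2 x⟩⟩
      one_smul := fun c => Subtype.ext (by show (1 : G) * c * (1 : G)⁻¹ = c; group)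
      mul_smul := fun x y c => Subtype.ext (by
        show ((x * y : S) : G) * c * ((x * y : S) : G)⁻¹ = x * (y * c * (y : G)⁻¹) * (x : G)⁻¹
        rw [Subgroup.coe_mul]; group) }
  obtain ⟨k, hk⟩ := (hS.to_le inf_le_left : IsPGroup 2 (S ⊓ N : Subgroup G)).exists_card_eq
  have hdvd : 2 ∣ Nat.card (S ⊓ N : Subgroup G) := by
    rcases k with - | k
    · rw [pow_zero] at hk
      exact absurd (Subgroup.card_eq_one.mp hk) hne
    · exact ⟨2 ^ k, by rw [hk, pow_succ, mul_comm]⟩
  have h1 : (1 : (S ⊓ N : Subgroup G)) ∈ MulAction.fixedPoints S (S ⊓ N : Subgroup G) := fun x =>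
    Subtype.ext (by show (x : G) * 1 * (x : G)⁻¹ = 1; group)
  obtain ⟨c, hc, hne1⟩ := hS.exists_fixed_point_of_prime_dvd_card_of_fixed_point _ hdvd h1
  refine ⟨c, c.2, fun e => hne1 (Subtype.ext e.symm), fun x hx => ?_⟩
  exact mul_inv_eq_iff_eq_mul.mp (congrArg Subtype.val (hc ⟨x, hx⟩))

theorem isSimpleGroup_of_local [Q.Normal] (h : Loc z Q) [hs : IsSimpleGroup (Cen z ⧸ Q)]
    (heven : 2 ∣ Nat.card (Cen z ⧸ Q)) {w : Cen z} (hwQ : w ∈ Q) (hw : w ≠ zc z)
    (hconj : ∃ g : G, g * z * g⁻¹ = w) (hgen : ∀ M : Subgroup (Cen z), M.Normal → w ∈ M → Q ≤ M) :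
    IsSimpleGroup G ∧ ¬ IsMulCommutative G := by
  haveI : Fact (Nat.Prime 2) := ⟨Nat.prime_two⟩
  obtain ⟨g, hg⟩ := hconj
  have hw1 : w ≠ 1 := fun e => h.z_ne (conj_eq_one_iff.mp (hg.trans (congrArg Subtype.val e)))
  -- a Sylow subgroup with the involution in its centre
  let P₀ : Sylow 2 (Cen z) := default
  have hQP : ∀ P : Sylow 2 (Cen z), Q ≤ P := fun P => by
    obtain ⟨P', hP'⟩ := h.isP.exists_le_sylow
    obtain ⟨x, rfl⟩ := MulAction.exists_smul_eq (Cen z) P' P
    intro q hq
    have := hP' ((inferInstance : Q.Normal).conj_mem q hq x⁻¹)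
    rw [Sylow.coe_subgroup_smul]
    exact ⟨x⁻¹ * q * x⁻¹⁻¹, this, by simp [MulAut.smul_def, mul_assoc]⟩
  obtain ⟨S, hS⟩ := (P₀.2.map (Cen z).subtype).exists_le_sylow
  have hPS : ∀ p ∈ (P₀ : Subgroup (Cen z)), (p : G) ∈ S := fun p hp => hS ⟨p, hp, rfl⟩
  have hcases : ∀ c ∈ (S : Subgroup G), (∀ x ∈ (S : Subgroup G), Commute x c) → c = 1 ∨ c = z := by
    intro c hc hcc
    have hcC : c ∈ Cen z := mem_centralizer_singleton_iff.mpr
      (hcc z (hPS (zc z) (hQP P₀ h.z_mem))).eq.symm
    have hcQ : (⟨c, hcC⟩ : Cen z) ∈ centralizer (Q : Set (Cen z)) := fun q hq =>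
      Subtype.ext (hcc q (hPS q (hQP P₀ hq))).eq
    rcases h.cen _ (h.self hcQ) fun a ha => Subtype.ext (hcc a (hPS a (hQP P₀ ha))).eq with e | e
    · exact Or.inl (congrArg Subtype.val e)
    · exact Or.inr (congrArg Subtype.val e)
  have hzS : ∀ x ∈ (S : Subgroup G), Commute x z := by
    have hne : (S : Subgroup G) ⊓ ⊤ ≠ ⊥ := fun e => by
      have h1 : z ∈ (S : Subgroup G) ⊓ ⊤ := ⟨hPS (zc z) (hQP P₀ h.z_mem), mem_top _⟩
      rw [e, mem_bot] at h1
      exact h.z_ne h1
    obtain ⟨c, hc, hc1, hcc⟩ := exists_fixed_in_normal S.2 hne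
    obtain rfl := (hcases c hc.1 hcc).resolve_left hc1
    exact hcc
  have hSC : (S : Subgroup G) ≤ Cen z := fun x hx => mem_centralizer_singleton_iff.mpr (hzS x hx).eq
  -- the normal subgroups of the centraliser from normal subgroups of the group
  haveI : Nontrivial G := ⟨⟨z, 1, h.z_ne⟩⟩
  refine ⟨⟨fun N hN => ?_⟩, fun hcomm => ?_⟩
  · by_cases he : 2 ∣ Nat.card N
    · right
      obtain ⟨x, hx⟩ := exists_prime_orderOf_dvd_card' (G := N) 2 he
      obtain ⟨S', hS'⟩ := (IsPGroup.of_card (n := 1) (G := zpowers (x : G))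
        (by rw [Nat.card_zpowers, Subgroup.orderOf_coe, hx, pow_one])).exists_le_sylow
      obtain ⟨y, rfl⟩ := MulAction.exists_smul_eq G S S'
      have hxS : (x : G) ∈ (↑(y • S) : Subgroup G) := hS' (mem_zpowers _)
      rw [Sylow.coe_subgroup_smul] at hxS
      obtain ⟨s, hs', e⟩ := hxS
      have e' : y * s * y⁻¹ = (x : G) := e
      have hne : (S : Subgroup G) ⊓ N ≠ ⊥ := fun hb => by
        have h1 : s ∈ (S : Subgroup G) ⊓ N := ⟨hs', by
          have := hN.conj_mem _ x.2 y⁻¹
          rw [← e'] at this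
          group at this
          exact this⟩
        rw [hb, mem_bot] at h1
        subst h1
        have : (x : N) = 1 := Subtype.ext (by rw [← e']; simp)
        rw [this, orderOf_one] at hx
        omega
      obtain ⟨c, hc, hc1, hcc⟩ := exists_fixed_in_normal S.2 hne
      obtain rfl := (hcases c hc.1 hcc).resolve_left hc1
      set M := N.subgroupOf (Cen c) with hM
      haveI hMn : M.Normal := Normal.subgroupOf hN _
      have hwM : w ∈ M := by
        show (w : G) ∈ N
        rw [← hg]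
        exact hN.conj_mem _ hc.2 g
      have hQM : Q ≤ M := hgen M hMn hwM
      rcases (Normal.map hMn (QuotientGroup.mk' Q) (QuotientGroup.mk'_surjective Q)).eq_bot_or_eq_top
        with hb | ht
      · exfalso
        rw [Subgroup.map_eq_bot_iff, QuotientGroup.ker_mk'] at hb
        have hCN : ∀ y ∈ N, ∀ hy : y ∈ Cen c, (⟨y, hy⟩ : Cen c) ∈ Q := fun y hyN hy => hb hyN
        obtain ⟨a, ha, b, hb', haw, hbw, hab⟩ := h.exists_pair hwQ
        have pull : ∀ q ∈ Q, Commute q w → ∃ q' ∈ Q, (q : G) = g * (q' : G) * g⁻¹ := by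
          intro q hq hqw
          have hqw' : (q : G) * (g * c * g⁻¹) = g * c * g⁻¹ * q := by
            rw [hg]; exact congrArg Subtype.val hqw.eq
          refine ⟨⟨g⁻¹ * q * g, mem_centralizer_singleton_iff.mpr ?_⟩, hCN _ ?_ _, by group⟩
          · calc g⁻¹ * q * g * c = g⁻¹ * (q * (g * c * g⁻¹)) * g := by group
              _ = g⁻¹ * (g * c * g⁻¹ * q) * g := by rw [hqw']
              _ = c * (g⁻¹ * q * g) := by group
          · have := hN.conj_mem _ (show (q : G) ∈ N from hQM hq) g⁻¹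
            rwa [inv_inv] at this
        obtain ⟨a', ha', ea⟩ := pull a ha haw
        obtain ⟨b', hb'', eb⟩ := pull b hb' hbw
        have e1 : c = g * ((⁅a', b'⁆ : Cen c) : G) * g⁻¹ := by
          calc c = ((⁅a, b⁆ : Cen c) : G) := by rw [hab]; rfl
            _ = _ := by
              simp only [commutatorElement_def, Subgroup.coe_mul, Subgroup.coe_inv, ea, eb]
              group
        rcases h.comm a' ha' b' hb'' with e2 | e2 <;> rw [e2] at e1
        · exact h.z_ne (by simpa using e1)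
        · exact hw (Subtype.ext (hg.symm.trans e1.symm))
      · have hall : ∀ y ∈ Cen c, y ∈ N := fun y hy => by
          obtain ⟨m, hm, e⟩ : QuotientGroup.mk' Q (⟨y, hy⟩ : Cen c) ∈ M.map (QuotientGroup.mk' Q) :=
            ht ▸ mem_top _
          have h1 := hQM (QuotientGroup.eq.mp e)
          have h2 : (⟨y, hy⟩ : Cen c) ∈ M := by
            have := mul_mem hm h1
            rwa [mul_inv_cancel_left] at this
          exact h2
        have hSN : (S : Subgroup G) ≤ N := fun y hy => hall y (hSC hy)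
        refine top_le_iff.mp ?_
        rw [← Sylow.normalizer_sup_eq_top' S hSN]
        refine sup_le (fun y hy => hall y (mem_centralizer_singleton_iff.mpr ?_)) le_rfl
        have hm : y * c * y⁻¹ ∈ (S : Subgroup G) := (mem_normalizer_iff.mp hy c).mp hc.1
        rcases hcases _ hm fun x hx => by
            have hx' : y⁻¹ * x * y ∈ (S : Subgroup G) := by
              refine (mem_normalizer_iff.mp hy _).mpr ?_
              have e : y * (y⁻¹ * x * y) * y⁻¹ = x := by group
              rw [e]; exact hx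
            have h1 := (Commute.conj_iff y).mpr (hzS _ hx')
            rwa [show y * (y⁻¹ * x * y) * y⁻¹ = x by group] at h1 with e | e
        · exact absurd (conj_eq_one_iff.mp e) hc1
        · exact mul_inv_eq_iff_eq_mul.mp e
    · left
      set M := N.subgroupOf (Cen z) with hM
      haveI hMn : M.Normal := Normal.subgroupOf hN _
      have hodd : ∀ x ∈ N, x * x = 1 → x = 1 := fun x hx e => by
        by_contra hne
        refine he ?_
        have : orderOf (⟨x, hx⟩ : N) = 2 :=
          orderOf_eq_prime (by rw [pow_two]; exact Subtype.ext e) fun e' => hne (congrArg Subtype.val e')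
        exact this ▸ orderOf_dvd_natCard _
      have hMQ : M ≤ Q := by
        rcases (Normal.map hMn (QuotientGroup.mk' Q) (QuotientGroup.mk'_surjective Q)).eq_bot_or_eq_top
          with hb | ht
        · rwa [Subgroup.map_eq_bot_iff, QuotientGroup.ker_mk'] at hb
        · exfalso
          refine he ?_
          have h1 : Nat.card (M.map (QuotientGroup.mk' Q)) ∣ Nat.card M := Subgroup.card_map_dvd _ _
          rw [ht, Subgroup.card_top] at h1
          refine (heven.trans h1).trans ?_
          exact Subgroup.card_dvd_of_injective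
            (MonoidHom.mk' (fun m : M => (⟨(m : Cen z), m.2⟩ : N)) fun a b => rfl)
            fun a b e => Subtype.ext (Subtype.ext (congrArg Subtype.val e :))
      have hfix : ∀ n ∈ N, Commute n z → n = 1 := fun n hn hnz => by
        have hnQ : (⟨n, mem_centralizer_singleton_iff.mpr hnz.eq⟩ : Cen z) ∈ Q := hMQ hn
        obtain ⟨k, hk⟩ := h.isP ⟨_, hnQ⟩
        by_contra hne
        refine he ?_
        have h1 : orderOf n ∣ 2 ^ k :=
          orderOf_dvd_of_pow_eq_one (congrArg (fun q : Q => ((q : Cen z) : G)) hk)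
        obtain ⟨j, -, hj⟩ := (Nat.dvd_prime_pow Nat.prime_two).mp h1
        rcases j with - | j
        · exact absurd (orderOf_eq_one_iff.mp (by rw [hj, pow_zero])) hne
        · refine (Dvd.intro_left (2 ^ j) (by rw [hj, pow_succ]) : 2 ∣ orderOf n).trans ?_
          rw [← Subgroup.orderOf_mk n hn]
          exact orderOf_dvd_natCard _
      have hzinv : ∀ n ∈ N, z * n * z⁻¹ = n⁻¹ := by
        let f : N → N := fun n => ⟨(n : G)⁻¹ * (z * n * z⁻¹), mul_mem (inv_mem n.2) (hN.conj_mem _ n.2 z)⟩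
        have hf : Function.Injective f := fun a b e => by
          have e' : (a : G)⁻¹ * (z * a * z⁻¹) = (b : G)⁻¹ * (z * b * z⁻¹) := congrArg Subtype.val e
          have h1 : Commute ((b : G) * (a : G)⁻¹) z := by
            show (b : G) * (a : G)⁻¹ * z = z * ((b : G) * (a : G)⁻¹)
            calc (b : G) * (a : G)⁻¹ * z
                = b * ((a : G)⁻¹ * (z * a * z⁻¹)) * (z * (a : G)⁻¹) := by group
              _ = b * ((b : G)⁻¹ * (z * b * z⁻¹)) * (z * (a : G)⁻¹) := by rw [e']
              _ = z * ((b : G) * (a : G)⁻¹) := by group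
          exact Subtype.ext (mul_inv_eq_one.mp (hfix _ (mul_mem b.2 (inv_mem a.2)) h1)).symm
        intro n hn
        obtain ⟨m, hm⟩ := (Finite.injective_iff_surjective.mp hf) ⟨n, hn⟩
        have hm' : n = (m : G)⁻¹ * (z * m * z⁻¹) := (congrArg Subtype.val hm).symm
        have hzz : z * z = 1 := h.z_sq
        have hzi : z⁻¹ = z := inv_eq_of_mul_eq_one_right hzz
        rw [hm', hzi]
        calc z * ((m : G)⁻¹ * (z * m * z)) * z = z * (m : G)⁻¹ * z * m * (z * z) := by group
          _ = z * (m : G)⁻¹ * z * m := by rw [hzz, mul_one]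
          _ = ((m : G)⁻¹ * (z * m * z⁻¹))⁻¹ := by rw [mul_inv_rev, mul_inv_rev, mul_inv_rev, inv_inv, inv_inv, hzi]; group
          _ = _ := by rw [hzi]
      have hwinv : ∀ n ∈ N, (w : G) * n * (w : G)⁻¹ = n⁻¹ := fun n hn => by
        have h1 := hzinv (g⁻¹ * n * g) (by have := hN.conj_mem _ hn g⁻¹; rwa [inv_inv] at this)
        rw [← hg]
        calc g * z * g⁻¹ * n * (g * z * g⁻¹)⁻¹ = g * (z * (g⁻¹ * n * g) * z⁻¹) * g⁻¹ := by group
          _ = g * (g⁻¹ * n * g)⁻¹ * g⁻¹ := by rw [h1]
          _ = n⁻¹ := by group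
      obtain ⟨q, hq, hqw⟩ : ∃ q ∈ Q, ⁅q, w⁆ = zc z := by
        by_contra! hno
        rcases h.cen w hwQ fun a ha => commutatorElement_eq_one_iff_mul_comm.mp
          ((h.comm a ha w hwQ).resolve_right (hno a ha)) with e | e
        · exact hw1 e
        · exact hw e
      rw [eq_bot_iff]
      intro n hn
      rw [mem_bot]
      have hzw : (q : G) * w * (q : G)⁻¹ = z * w := by
        have h1 : q * w * q⁻¹ = zc z * w := by rw [← hqw, commutatorElement_def]; group
        exact congrArg Subtype.val h1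
      have h2 : z * (w : G) * n * (z * (w : G))⁻¹ = n⁻¹ := by
        have h1 := hwinv ((q : G)⁻¹ * n * q) (by have := hN.conj_mem _ hn (q : G)⁻¹; rwa [inv_inv] at this)
        rw [← hzw]
        calc (q : G) * w * (q : G)⁻¹ * n * ((q : G) * w * (q : G)⁻¹)⁻¹
            = q * ((w : G) * ((q : G)⁻¹ * n * q) * (w : G)⁻¹) * (q : G)⁻¹ := by group
          _ = q * ((q : G)⁻¹ * n * q)⁻¹ * (q : G)⁻¹ := by rw [h1]
          _ = n⁻¹ := by group
      have h3 : z * (w : G) * n * (z * (w : G))⁻¹ = n := by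
        calc z * (w : G) * n * (z * (w : G))⁻¹ = z * ((w : G) * n * (w : G)⁻¹) * z⁻¹ := by group
          _ = z * n⁻¹ * z⁻¹ := by rw [hwinv n hn]
          _ = n := by rw [hzinv _ (inv_mem hn), inv_inv]
      refine hodd n hn ?_
      rw [h3] at h2
      exact eq_inv_iff_mul_eq_one.mp h2
  · obtain ⟨a, -, b, -, -, -, hab⟩ := h.exists_pair hwQ
    refine h.zc_ne (hab.symm.trans (commutatorElement_eq_one_iff_mul_comm.mpr (Subtype.ext ?_)))
    exact hcomm.is_comm.comm _ _

theorem genFitting_of {C : Type u} [Group C] [Finite C] (R : Subgroup C) [R.Normal] (hp : IsPGroup 2 R)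
    [IsSimpleGroup (C ⧸ R)] (hns : ¬ Group.IsSolvable (C ⧸ R)) (hself : centralizer (R : Set C) ≤ R) :
    Cfsg.generalizedFittingSubgroup C = R := by
  haveI : Fact (Nat.Prime 2) := ⟨Nat.prime_two⟩
  have hQF : R ≤ Cfsg.fittingSubgroup C := le_sSup ⟨inferInstance, hp.isNilpotent⟩
  have hFQ : Cfsg.fittingSubgroup C ≤ R := by
    have hn : ((Cfsg.fittingSubgroup C).map (QuotientGroup.mk' R)).Normal :=
      Subgroup.Normal.map inferInstance _ (QuotientGroup.mk'_surjective R)
    rcases hn.eq_bot_or_eq_top with h | h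
    · rwa [Subgroup.map_eq_bot_iff, QuotientGroup.ker_mk'] at h
    · exfalso
      refine hns ?_
      haveI := Cfsg.Lib.Components.isSolvable_fitting (G := C)
      refine Group.isSolvable_of_surjective
        (f := (QuotientGroup.mk' R).comp (Cfsg.fittingSubgroup C).subtype) fun w => ?_
      obtain ⟨a, ha, hae⟩ : w ∈ (Cfsg.fittingSubgroup C).map (QuotientGroup.mk' R) := h ▸ Subgroup.mem_top _
      exact ⟨⟨a, ha⟩, hae⟩
  refine le_antisymm (sup_le ?_ hFQ) (hQF.trans le_sup_right)
  refine le_trans ?_ hself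
  exact ((Subgroup.commutator_eq_bot_iff_le_centralizer.mp Cfsg.Lib.Components.layer_commute_fitting)).trans
    (Subgroup.centralizer_le hQF)

end Cfsg.Lib.Leech.Co0Section
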