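import Cfsg.Agent.Leech.Co0Section.Data
import Cfsg.Agent.Leech.Co0Section.Local

/-!
# Coordinates on the fixed points of the element in the extraspecial group
-/

set_option autoImplicit false
set_option linter.style.haveILetI false

namespace Cfsg.Lib.Leech.Co0Section

open Cfsg Cfsg.Lib.Golay Cfsg.Lib.Leech Cfsg.Lib.Leech.Co1Inv Stab
open Cfsg.Lib.Leech.Mult (el eqW el_eq el_append)
open scoped commutatorElement

theorem all_ok_append {u v : List Atom} (hu : u.all (·.ok) = true) (hv : v.all (·.ok) = true) :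
    (u ++ v).all (·.ok) = true := by
  rw [List.all_append, hu, hv]; rfl

/-- A word in the centraliser. -/
noncomputable def cz (w : List Atom) : Cz := if h : inCz w = true then proj ⟨el w, el_mem_Cg h⟩ else 1

theorem cz_val {w : List Atom} (h : inCz w = true) : (cz w : Spor.Co1) = elC w := by
  rw [cz, dif_pos h]; rfl

theorem zC_sq : Co1Inv.zC * Co1Inv.zC = 1 := Subtype.ext (by
  show zInv * zInv = 1
  rw [← pow_two, ← orderOf_zInv, pow_orderOf_eq_one])

theorem zC_ne : Co1Inv.zC ≠ 1 := fun h => by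
  have := orderOf_zInv
  rw [show zInv = 1 from congrArg Subtype.val h, orderOf_one] at this
  omega

theorem commute_zC (x : Cz) : Commute x Co1Inv.zC := Subtype.ext (Subgroup.mem_centralizer_singleton_iff.mp x.2)

instance zpowers_zC_normal : (Subgroup.zpowers Co1Inv.zC).Normal :=
  ⟨fun c hc x => by
    obtain ⟨k, rfl⟩ := Subgroup.mem_zpowers_iff.mp hc
    rw [((commute_zC x).zpow_right k).eq, mul_inv_cancel_right]
    exact Subgroup.mem_zpowers_iff.mpr ⟨k, rfl⟩⟩

/-- The quotient by the involution. -/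
abbrev Cbar : Type := Cz ⧸ Subgroup.zpowers Co1Inv.zC

theorem mem_zpowers_zC {c : Cz} : c ∈ Subgroup.zpowers Co1Inv.zC ↔ c = 1 ∨ c = Co1Inv.zC := by
  constructor
  · intro h
    obtain ⟨k, rfl⟩ := Subgroup.mem_zpowers_iff.mp h
    rcases Int.even_or_odd k with ⟨j, rfl⟩ | ⟨j, rfl⟩
    · exact Or.inl (by rw [← two_mul, zpow_mul, show (Co1Inv.zC : Cz) ^ (2 : ℤ) = Co1Inv.zC * Co1Inv.zC from zpow_two _, zC_sq, one_zpow])
    · exact Or.inr (by
        rw [zpow_add, zpow_mul, show (Co1Inv.zC : Cz) ^ (2 : ℤ) = Co1Inv.zC * Co1Inv.zC from zpow_two _, zC_sq, one_zpow, one_mul,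
          zpow_one])
  · rintro (rfl | rfl)
    · exact one_mem _
    · exact Subgroup.mem_zpowers _

theorem bar_eq_iff {u v : Cz} :
    (QuotientGroup.mk u : Cbar) = QuotientGroup.mk v ↔ u = v ∨ u = Co1Inv.zC * v := by
  rw [eq_comm, QuotientGroup.eq, mem_zpowers_zC, inv_mul_eq_one, inv_mul_eq_iff_eq_mul, ← (commute_zC v).eq,
    @eq_comm _ v u]

theorem zC_mem_Q : Co1Inv.zC ∈ Q := by
  rw [show Co1Inv.zC = proj (monoC 1 compl_code) from proj_flip_compl.symm]
  exact mem_Q_of _ (fun _ _ => rfl) fun p hp h => Finset.mem_compl.mp h hp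

theorem foldr_hom {Γ : Type} [Group Γ] (b : ℕ → Γ) (hc : ∀ i j, Commute (b i) (b j)) (hs : ∀ i, b i * b i = 1)
    (x y : ℕ) : ∀ l : List ℕ,
    (l.map fun j => if (x ^^^ y).testBit j then b j else 1).prod =
      (l.map fun j => if x.testBit j then b j else 1).prod * (l.map fun j => if y.testBit j then b j else 1).prod
  | [] => by simp
  | j :: l => by
    have hcomm : ∀ (z : ℕ) (u : Γ), (∀ i, Commute (b i) u) →
        Commute (l.map fun i => if z.testBit i then b i else 1).prod u := fun z u hu =>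
      (Commute.list_prod_left _ _ fun w hw => by
        obtain ⟨i, -, rfl⟩ := List.mem_map.mp hw
        split
        · exact hu i
        · exact Commute.one_left _)
    simp only [List.map_cons, List.prod_cons]
    rw [foldr_hom b hc hs x y l, Nat.testBit_xor]
    set A := (l.map fun i => if x.testBit i then b i else 1).prod with hA
    set B := (l.map fun i => if y.testBit i then b i else 1).prod with hB
    have hAj : Commute A (b j) := hcomm x _ fun i => hc i j
    cases x.testBit j <;> cases y.testBit j <;> simp only [Bool.xor_false, Bool.xor_true, Bool.not_false,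
      Bool.not_true, if_true, if_false, Bool.false_eq_true, one_mul, ← mul_assoc]
    · rw [hAj.eq]
    · rw [mul_assoc (b j) A, hAj.eq, ← mul_assoc (b j), hs, one_mul]

variable {D : Data}

/-- The product of basis elements. -/
noncomputable def Data.pz (D : Data) (x : ℕ) : Cz :=
  ((List.range 8).map fun j => if x.testBit j then cz (D.bw j) else 1).prod

/-- Its class. -/
noncomputable def Data.pb (D : Data) (x : ℕ) : Cbar := QuotientGroup.mk (D.pz x)

/-- The element of odd order. -/
noncomputable def Data.a1 (D : Data) : Cz := cz D.a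

namespace Data.Valid

variable (h : D.Valid)
include h

theorem bw_ok (j : ℕ) : (D.bw j).all (·.ok) = true ∨ 8 ≤ j := by
  rcases Nat.lt_or_ge j 8 with hj | hj
  · exact Or.inl (ok_of_inCz (h.b_ok j hj).1)
  · exact Or.inr hj

theorem pw_spec (x : ℕ) : (D.pw x).all (·.ok) = true ∧ (D.pz x : Spor.Co1) = elC (D.pw x) := by
  have key : ∀ l : List ℕ, (∀ j ∈ l, j < 8) →
      (l.flatMap fun j => bif x.testBit j then D.bw j else []).all (·.ok) = true ∧
      (((l.map fun j => if x.testBit j then cz (D.bw j) else 1).prod : Cz) : Spor.Co1) =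
        elC (l.flatMap fun j => bif x.testBit j then D.bw j else []) := by
    intro l hl
    induction l with
    | nil => exact ⟨rfl, rfl⟩
    | cons j l ih =>
      obtain ⟨h1, h2⟩ := ih fun i hi => hl i (List.mem_cons_of_mem _ hi)
      have hj := h.b_ok j (hl j List.mem_cons_self)
      refine ⟨?_, ?_⟩
      · rw [List.flatMap_cons]
        refine all_ok_append ?_ h1
        cases x.testBit j
        · rfl
        · exact ok_of_inCz hj.1
      · rw [List.flatMap_cons, elC_append, List.map_cons, List.prod_cons, Subgroup.coe_mul, h2]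
        cases x.testBit j
        · simp [elC_nil]
        · simp [cz_val hj.1]
  exact key _ fun j hj => List.mem_range.mp hj

theorem bw_Q (j : ℕ) (hj : j < 8) : cz (D.bw j) ∈ Q := by
  rw [cz, dif_pos (h.b_ok j hj).1]
  exact ⟨_, rho_el_eq_one (ok_of_inCz (h.b_ok j hj).1) _ (h.b_ok j hj).2, rfl⟩

theorem pz_Q (x : ℕ) : D.pz x ∈ Q :=
  Subgroup.list_prod_mem _ fun z hz => by
    obtain ⟨j, hj, rfl⟩ := List.mem_map.mp hz
    split
    · exact h.bw_Q j (List.mem_range.mp hj)
    · exact one_mem _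

theorem eq_of_check {u v : List Atom} {p q : Cz} (hu : u.all (·.ok) = true) (hv : v.all (·.ok) = true)
    (hp : (p : Spor.Co1) = elC u) (hq : (q : Spor.Co1) = elC v) : eqC u v = true ↔ p = q := by
  rw [← elC_eq_iff hu hv, ← hp, ← hq]
  exact Subtype.coe_inj

theorem bar_of_check {u v : List Atom} {p q : Cz} (hu : u.all (·.ok) = true) (hv : v.all (·.ok) = true)
    (hp : (p : Spor.Co1) = elC u) (hq : (q : Spor.Co1) = elC v) :
    (eqC u v || eqC u (zW ++ v)) = true ↔ (QuotientGroup.mk p : Cbar) = QuotientGroup.mk q := by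
  rw [bar_eq_iff, Bool.or_eq_true, h.eq_of_check hu hv hp hq,
    h.eq_of_check hu (all_ok_append zW_ok hv) hp (q := Co1Inv.zC * q) (by rw [elC_append, elC_zW, Subgroup.coe_mul, hq]; rfl)]

theorem pb_xor (x y : ℕ) : D.pb (x ^^^ y) = D.pb x * D.pb y := by
  have hsplit : ∀ z, D.pb z = ((List.range 8).map fun j => if z.testBit j then
      (if j < 8 then (QuotientGroup.mk (cz (D.bw j)) : Cbar) else 1) else 1).prod := fun z => by
    rw [Data.pb, Data.pz, ← QuotientGroup.mk'_apply, map_list_prod, List.map_map]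
    refine congrArg List.prod (List.map_congr_left fun j hj => ?_)
    rw [if_pos (List.mem_range.mp hj)]
    simp only [Function.comp_apply]
    split <;> rfl
  rw [hsplit, hsplit, hsplit]
  refine foldr_hom _ ?_ ?_ x y _
  · intro i j
    by_cases hi : i < 8
    · by_cases hj : j < 8
      · rw [if_pos hi, if_pos hj]
        have hbi := h.b_ok i hi
        have hbj := h.b_ok j hj
        have := (h.bar_of_check (all_ok_append (ok_of_inCz hbi.1) (ok_of_inCz hbj.1))
          (all_ok_append (ok_of_inCz hbj.1) (ok_of_inCz hbi.1)) (p := cz (D.bw i) * cz (D.bw j))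
          (q := cz (D.bw j) * cz (D.bw i)) (by rw [Subgroup.coe_mul, elC_append, cz_val hbi.1, cz_val hbj.1])
          (by rw [Subgroup.coe_mul, elC_append, cz_val hbi.1, cz_val hbj.1])).mp (by
            rw [← List.append_assoc]; exact h.b_rel i hi j hj)
        exact this
      · rw [if_neg hj]; exact Commute.one_right _
    · rw [if_neg hi]; exact Commute.one_left _
  · intro i
    by_cases hi : i < 8
    · rw [if_pos hi]
      have hbi := h.b_ok i hi
      exact (h.bar_of_check (all_ok_append (ok_of_inCz hbi.1) (ok_of_inCz hbi.1)) (v := [])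
        rfl (p := cz (D.bw i) * cz (D.bw i)) (q := 1) (by rw [Subgroup.coe_mul, elC_append, cz_val hbi.1])
        rfl).mp (by rw [List.append_nil]; exact h.b_sq i hi)
    · rw [if_neg hi, one_mul]

theorem pb_zero : D.pb 0 = 1 := by
  rw [Data.pb, Data.pz]
  simp

theorem pb_eq_one {x : ℕ} (hx : x < 256) (e : D.pb x = 1) : x = 0 := by
  by_contra hne
  obtain ⟨h1, h2⟩ := h.pw_spec x
  have := (h.bar_of_check h1 (v := []) rfl h2 (q := 1) rfl).mpr e
  rw [List.append_nil, h.indep x hx hne] at this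
  exact Bool.false_ne_true this

theorem pb_inj {x y : ℕ} (hx : x < 256) (hy : y < 256) (e : D.pb x = D.pb y) : x = y := by
  have h2 : D.pb x * D.pb x = 1 := by
    rw [← h.pb_xor, Nat.xor_self, h.pb_zero]
  have h1 : D.pb (x ^^^ y) = 1 := by rw [h.pb_xor, ← e, h2]
  have h3 := h.pb_eq_one (Nat.xor_lt_two_pow (n := 8) (by norm_num; exact hx) (by norm_num; exact hy)) h1
  exact Nat.xor_eq_zero_iff.mp h3

theorem Q_cases {q : Cz} (hq : q ∈ Q) : ∃ x < 256, q = D.pz x ∨ q = Co1Inv.zC * D.pz x := by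
  classical
  let F : Fin 256 × Bool → Q := fun p =>
    if p.2 then ⟨Co1Inv.zC * D.pz p.1, mul_mem zC_mem_Q (h.pz_Q _)⟩ else ⟨D.pz p.1, h.pz_Q _⟩
  have hF : Function.Injective F := by
    rintro ⟨x, s⟩ ⟨y, t⟩ e
    have hxy : x = y := Fin.ext (h.pb_inj x.2 y.2 (by
      have e' : ((if s then Co1Inv.zC * D.pz x else D.pz x) : Cz) = (if t then Co1Inv.zC * D.pz y else D.pz y) := by
        have := congrArg Subtype.val e
        simp only [F] at this
        cases s <;> cases t <;> simpa using this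
      show (QuotientGroup.mk (D.pz x) : Cbar) = QuotientGroup.mk (D.pz y)
      rw [bar_eq_iff]
      cases s <;> cases t <;> simp only [if_true, if_false, Bool.false_eq_true] at e'
      · exact Or.inl e'
      · exact Or.inr e'
      · refine Or.inr ?_
        rw [← e', ← mul_assoc, zC_sq, one_mul]
      · exact Or.inl (mul_left_cancel e')))
    subst hxy
    refine Prod.ext rfl ?_
    have := congrArg Subtype.val e
    simp only [F] at this
    cases s <;> cases t <;> first | rfl | (exfalso; simp at this; exact zC_ne this)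
  have hcard : Nat.card (Fin 256 × Bool) = Nat.card Q := by rw [card_Q]; simp
  obtain ⟨⟨x, s⟩, hs⟩ := ((Nat.bijective_iff_injective_and_card F).mpr ⟨hF, hcard⟩).2 ⟨q, hq⟩
  refine ⟨x, x.2, ?_⟩
  have := congrArg Subtype.val hs
  simp only [F] at this
  cases s
  · exact Or.inl (by simpa using this.symm)
  · exact Or.inr (by simpa using this.symm)

theorem a1_val : (D.a1 : Spor.Co1) = elC D.a := cz_val h.a_ok

theorem a1_commute {x : ℕ} (hx : x < 2 ^ D.n) : Commute D.a1 (D.pz x) := by
  refine (Commute.list_prod_left _ _ fun w hw => ?_).symm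
  obtain ⟨j, hj, rfl⟩ := List.mem_map.mp hw
  split
  · rename_i hb
    have hjn : j < D.n := by
      by_contra hge
      rw [Nat.testBit_lt_two_pow (lt_of_lt_of_le hx (Nat.pow_le_pow_right (by norm_num) (not_lt.mp hge)))] at hb
      exact Bool.false_ne_true hb
    have hb' := h.b_ok j (List.mem_range.mp hj)
    exact ((h.eq_of_check (all_ok_append (ok_of_inCz h.a_ok) (ok_of_inCz hb'.1))
      (all_ok_append (ok_of_inCz hb'.1) (ok_of_inCz h.a_ok)) (p := D.a1 * cz (D.bw j)) (q := cz (D.bw j) * D.a1)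
      (by rw [Subgroup.coe_mul, elC_append, cz_val hb'.1, h.a1_val])
      (by rw [Subgroup.coe_mul, elC_append, cz_val hb'.1, h.a1_val])).mp (h.a_comm j hjn)).symm
  · exact Commute.one_left _

theorem two_pow_n : 2 ^ D.n ≤ 256 := by
  rw [show (256 : ℕ) = 2 ^ 8 by norm_num]
  exact Nat.pow_le_pow_right (by norm_num) h.n_le

theorem fixed_cases {q : Cz} (hq : q ∈ Q) (hc : Commute D.a1 q) :
    ∃ x < 2 ^ D.n, q = D.pz x ∨ q = Co1Inv.zC * D.pz x := by
  obtain ⟨x, hx, hcase⟩ := h.Q_cases hq
  refine ⟨x, ?_, hcase⟩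
  set lo := x % 2 ^ D.n with hlo
  set y := x / 2 ^ D.n with hy
  have hxe : x = lo ^^^ y * 2 ^ D.n := by
    refine Nat.eq_of_testBit_eq fun i => ?_
    rw [Nat.testBit_xor, hlo, hy, Nat.testBit_mod_two_pow, Nat.testBit_mul_two_pow]
    by_cases hi : i < D.n
    · simp [hi, not_le.mpr hi]
    · rw [Nat.testBit_div_two_pow, Nat.sub_add_cancel (not_lt.mp hi)]
      simp [hi, not_lt.mp hi]
  by_contra hge
  have hy0 : y ≠ 0 := fun e => hge (by
    rw [hxe, e, zero_mul, Nat.xor_zero]; exact Nat.mod_lt _ (by positivity))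
  have hy8 : y < 2 ^ (8 - D.n) := by
    rw [hy, Nat.div_lt_iff_lt_mul (by positivity), ← pow_add, Nat.sub_add_cancel h.n_le]
    exact hx
  have hpx : Commute D.a1 (D.pz x) := by
    rcases hcase with rfl | rfl
    · exact hc
    · have := (commute_zC D.a1).inv_right.mul_right hc
      rwa [inv_mul_cancel_left] at this
  have hb : (QuotientGroup.mk (D.pz lo * D.pz (y * 2 ^ D.n)) : Cbar) = QuotientGroup.mk (D.pz x) := by
    show D.pb lo * D.pb (y * 2 ^ D.n) = D.pb x
    rw [← h.pb_xor, ← hxe]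
  have hhi : Commute D.a1 (D.pz (y * 2 ^ D.n)) := by
    have h1 := h.a1_commute (x := lo) (Nat.mod_lt _ (by positivity))
    rcases bar_eq_iff.mp hb with e | e
    · rw [eq_inv_mul_iff_mul_eq.mpr e]; exact h1.inv_right.mul_right hpx
    · rw [eq_inv_mul_iff_mul_eq.mpr e]; exact h1.inv_right.mul_right ((commute_zC _).mul_right hpx)
  obtain ⟨h1, h2⟩ := h.pw_spec (y * 2 ^ D.n)
  have := (h.eq_of_check (all_ok_append (ok_of_inCz h.a_ok) h1) (all_ok_append h1 (ok_of_inCz h.a_ok))
    (p := D.a1 * D.pz (y * 2 ^ D.n)) (q := D.pz (y * 2 ^ D.n) * D.a1)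
    (by rw [Subgroup.coe_mul, elC_append, h2, h.a1_val])
    (by rw [Subgroup.coe_mul, elC_append, h2, h.a1_val])).mpr hhi.eq
  rw [h.a_move y hy8 hy0] at this
  exact Bool.false_ne_true this

theorem pz_sq {x : ℕ} (hx : x < 2 ^ D.n) : D.pz x * D.pz x = if D.qN x then Co1Inv.zC else 1 := by
  obtain ⟨h1, h2⟩ := h.pw_spec x
  refine (h.eq_of_check (all_ok_append h1 h1) (v := zp (D.qN x)) ?_ ?_ ?_).mp (h.sq x hx)
  · cases D.qN x
    · rfl
    · exact zW_ok
  · rw [Subgroup.coe_mul, elC_append, h2]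
  · cases D.qN x
    · rfl
    · simp only [if_true, zp, cond_true, elC_zW]; rfl

theorem sq_of_bar {x : ℕ} (hx : x < 2 ^ D.n) {q : Cz} (e : (QuotientGroup.mk q : Cbar) = D.pb x) :
    q * q = if D.qN x then Co1Inv.zC else 1 := by
  rcases bar_eq_iff.mp e with rfl | rfl
  · exact h.pz_sq hx
  · rw [← h.pz_sq hx, mul_assoc, ← mul_assoc (D.pz x), (commute_zC _).eq, mul_assoc Co1Inv.zC, ← mul_assoc, zC_sq, one_mul]

theorem commute_pz_imp {x y : ℕ} (hx : x < 2 ^ D.n) (hy : y < 2 ^ D.n) (hc : Commute (D.pz x) (D.pz y)) :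
    Classical.OrthH1.pN D.qN x y = false := by
  have h1 := h.sq_of_bar (Nat.xor_lt_two_pow hx hy) (q := D.pz x * D.pz y) (by rw [h.pb_xor]; rfl)
  rw [mul_assoc, ← mul_assoc (D.pz y), ← hc.eq, mul_assoc (D.pz x) (D.pz y), ← mul_assoc (D.pz x) (D.pz x),
    h.pz_sq hx, h.pz_sq hy] at h1
  revert h1
  rw [Classical.OrthH1.pN]
  cases D.qN x <;> cases D.qN y <;> cases D.qN (x ^^^ y) <;>
    simp [zC_ne, zC_ne.symm, zC_sq]

theorem commutator_pz (x y : ℕ) : ⁅D.pz x, D.pz y⁆ = 1 ∨ ⁅D.pz x, D.pz y⁆ = Co1Inv.zC := by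
  refine mem_zpowers_zC.mp ((QuotientGroup.eq_one_iff _).mp ?_)
  rw [← QuotientGroup.mk'_apply, map_commutatorElement]
  exact commutatorElement_eq_one_iff_mul_comm.mpr
    (show D.pb x * D.pb y = D.pb y * D.pb x by rw [← h.pb_xor, ← h.pb_xor, Nat.xor_comm])

end Data.Valid

end Cfsg.Lib.Leech.Co0Section
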