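import Cfsg.Agent.Leech.Co0Section.Words

/-!
# Certificates for a section of the lattice group at an element of odd prime order

An element `a` of prime order `r` centralising the involution, a basis of the extraspecial group modulo its centre
whose first `n` members span the fixed points of `a`, bounds for the centraliser of `a` modulo the extraspecial
group, elements of the centraliser whose commutators generate the orthogonal group on the fixed points, and an
element moving the involution inside them.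
-/

set_option autoImplicit false

namespace Cfsg.Lib.Leech.Co0Section

open Cfsg.Lib Cfsg.Lib.Leech Stab
open Cfsg.Lib.Leech.Mult (eqW)
open Cfsg.Lib.Classical.OrthH1 (lN)

/-- The certificate. -/
structure Data where
  r : ℕ
  n : ℕ
  qN : ℕ → Bool
  a : List Atom
  b : List (List Atom)
  es : List (ℕ × ℕ)
  tspan : List (List (ℕ × ℕ))
  hs : List (List Atom × List ℕ × List ℕ)
  pairs : List (ℕ × ℕ)
  levels : List (ℕ × List (List ℕ))
  g : List Atom
  xw : ℕ
  span : List (List (List ℕ))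

variable (D : Data)

/-- A word of the basis. -/
def Data.bw (j : ℕ) : List Atom := D.b.getD j []

/-- The word of a vector. -/
def Data.pw (x : ℕ) : List Atom := (List.range 8).flatMap fun j => bif x.testBit j then D.bw j else []

/-- A power of the involution. -/
def zp (c : Bool) : List Atom := bif c then zW else []

/-- The coded form on the octad part. -/
def qV (x : ℕ) : Bool :=
  (x.testBit 0 && x.testBit 4) ^^ (x.testBit 1 && x.testBit 5) ^^ (x.testBit 2 && x.testBit 6) ^^
    (x.testBit 3 && x.testBit 7)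

/-- The image of the element of order `r` on the octad part, iterated. -/
def Data.tIt (i x : ℕ) : ℕ := (lN 8 (rimg D.a))^[i] x

/-- The conditions on the image of a vector with given fixed vectors. -/
def Data.upS (prev : List ℕ) (e v : ℕ) : Bool :=
  qV v == qV e && (List.range D.r).all fun i =>
    Classical.OrthH1.pN qV v (D.tIt i v) == Classical.OrthH1.pN qV e (D.tIt i e) && prev.all fun f => Classical.OrthH1.pN qV v (D.tIt i f) == Classical.OrthH1.pN qV e (D.tIt i f)

/-- The bounds on the numbers of images. -/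
def Data.upChk : List ℕ → List (ℕ × ℕ) → Bool
  | _, [] => true
  | prev, (e, c) :: l =>
    decide (((List.range 256).filter (D.upS prev e)).length ≤ c) && Data.upChk (e :: prev) l

/-- A member of the centraliser and its images. -/
def Data.hd (k : ℕ) : List Atom × List ℕ × List ℕ := D.hs.getD k ([], [], [])

/-- A commutator applied to a vector. -/
def Data.comApp (p x : ℕ) : ℕ :=
  lN D.n (D.hd (D.pairs.getD p (0, 0)).1).2.1 (lN D.n (D.hd (D.pairs.getD p (0, 0)).2).2.1
    (lN D.n (D.hd (D.pairs.getD p (0, 0)).1).2.2 (lN D.n (D.hd (D.pairs.getD p (0, 0)).2).2.2 x)))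

/-- A word of commutators applied to a vector. -/
def Data.wImg (w : List ℕ) (x : ℕ) : ℕ := w.foldr D.comApp x

/-- The numbers of images. -/
def Data.lowChk : List ℕ → List (ℕ × List (List ℕ)) → Bool
  | _, [] => true
  | done, (e, ws) :: l =>
    decide (e < 2 ^ D.n) && ws.all (fun w => w.all (fun p => decide (p < D.pairs.length)) &&
        done.all fun f => D.wImg w f == f) &&
      decide (ws.map fun w => D.wImg w e).Nodup && Data.lowChk (e :: done) l

/-- The certificate holds. -/
structure Data.Valid : Prop where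
  r_prime : D.r.Prime
  r_odd : D.r ≠ 2
  n_le : D.n ≤ 8
  n_ge : 4 ≤ D.n
  a_ok : inCz D.a = true
  a_pow : eqW (List.replicate D.r D.a).flatten [] = true
  a_ne : eqC D.a [] = false
  b_ok : ∀ j < 8, inCz (D.bw j) = true ∧ rimg (D.bw j) = (List.range 8).map (2 ^ ·)
  b_rel : ∀ i < 8, ∀ j < 8,
    (eqC (D.bw i ++ D.bw j) (D.bw j ++ D.bw i) || eqC (D.bw i ++ D.bw j) (zW ++ D.bw j ++ D.bw i)) = true
  b_sq : ∀ j < 8, (eqC (D.bw j ++ D.bw j) [] || eqC (D.bw j ++ D.bw j) zW) = true
  indep : ∀ x < 256, x ≠ 0 → (eqC (D.pw x) [] || eqC (D.pw x) zW) = false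
  sq : ∀ x < 2 ^ D.n, eqC (D.pw x ++ D.pw x) (zp (D.qN x)) = true
  nondeg : ∀ x < 2 ^ D.n, x ≠ 0 → ∃ y, y < 2 ^ D.n ∧ Classical.OrthH1.pN D.qN x y = true
  a_comm : ∀ j < D.n, eqC (D.a ++ D.bw j) (D.bw j ++ D.a) = true
  a_move : ∀ y < 2 ^ (8 - D.n), y ≠ 0 → eqC (D.a ++ D.pw (y * 2 ^ D.n)) (D.pw (y * 2 ^ D.n) ++ D.a) = false
  up_ok : D.upChk [] D.es = true
  es_lt : ∀ t ∈ D.es, t.1 < 256
  tspan_ok : ∀ i < 8, ((D.tspan.getD i []).all fun t => (D.es.map (·.1)).contains t.2) = true ∧
    ((D.tspan.getD i []).map fun t => D.tIt t.1 t.2).foldr (· ^^^ ·) 0 = 2 ^ i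
  pairs_ok : ∀ p ∈ D.pairs, p.1 < D.hs.length ∧ p.2 < D.hs.length
  hs_ok : ∀ k < D.hs.length, inCz (D.hd k).1 = true ∧ eqC (D.a ++ (D.hd k).1) ((D.hd k).1 ++ D.a) = true ∧
    (∀ j < D.n, (D.hd k).2.1.getD j 0 < 2 ^ D.n ∧
      (eqC ((D.hd k).1 ++ D.bw j) (D.pw ((D.hd k).2.1.getD j 0) ++ (D.hd k).1) ||
      eqC ((D.hd k).1 ++ D.bw j) (zW ++ D.pw ((D.hd k).2.1.getD j 0) ++ (D.hd k).1)) = true) ∧
    (∀ x < 2 ^ D.n, lN D.n (D.hd k).2.1 x < 2 ^ D.n ∧ lN D.n (D.hd k).2.2 x < 2 ^ D.n ∧
      lN D.n (D.hd k).2.1 (lN D.n (D.hd k).2.2 x) = x)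
  low_ok : D.lowChk [] D.levels = true
  g_ok : D.g.all (·.ok) = true
  g_comm : eqC (D.a ++ D.g) (D.g ++ D.a) = true
  g_conj : eqC (D.g ++ zW) (D.pw D.xw ++ D.g) = true
  xw_ok : D.xw < 2 ^ D.n ∧ D.xw ≠ 0
  span_ok : ∀ i < D.n, ((D.span.getD i []).all fun w => w.all fun p => decide (p < D.pairs.length)) = true ∧
    ((D.span.getD i []).map fun w => D.wImg w D.xw).foldr (· ^^^ ·) 0 = 2 ^ i

end Cfsg.Lib.Leech.Co0Section
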