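import Cfsg.Agent.Leech.Co0Section.JData

/-!
# The certificate at order five holds
-/

set_option autoImplicit false
set_option maxRecDepth 100000
set_option maxHeartbeats 4000000

namespace Cfsg.Lib.Leech.Co0Section

theorem j_valid : jData.Valid where
  r_prime := by decide +kernel
  r_odd := by decide
  n_le := by decide
  n_ge := by decide
  a_ok := by decide +kernel
  a_pow := by decide +kernel
  a_ne := by decide +kernel
  b_ok := by decide +kernel
  b_rel := by decide +kernel
  b_sq := by decide +kernel
  indep := by decide +kernel
  sq := by decide +kernel
  nondeg := by decide +kernel
  a_comm := by decide +kernel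
  a_move := by decide +kernel
  up_ok := by decide +kernel
  es_lt := by decide +kernel
  tspan_ok := by decide +kernel
  pairs_ok := by decide +kernel
  hs_ok := by decide +kernel
  low_ok := by decide +kernel
  g_ok := by decide +kernel
  g_comm := by decide +kernel
  g_conj := by decide +kernel
  xw_ok := by decide +kernel
  span_ok := by decide +kernel

end Cfsg.Lib.Leech.Co0Section
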