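import Cfsg.Agent.Leech.Co0Section.Upper
import Cfsg.Prelude.Def_Transfer

/-!
# The simple section

The centraliser of the element of odd prime order, modulo the element and the centre, is simple with the prescribed
centraliser of an involution.
-/

set_option autoImplicit false
set_option linter.style.haveILetI false

namespace Cfsg.Lib.Leech.Co0Section

open Cfsg Cfsg.Lib.Golay Cfsg.Lib.Leech Cfsg.Lib.Leech.Co1Inv Stab
open Cfsg.Lib.Leech.Mult (el el_eq el_append)
open Cfsg.Lib.Classical.OrthH1 (lN exists_code ofBit)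
open scoped commutatorElement

namespace Data.Valid

variable {D : Data} (h : D.Valid)
include h

theorem orderOf_el_a : orderOf (el D.a) = D.r := by
  haveI : Fact D.r.Prime := ⟨h.r_prime⟩
  refine orderOf_eq_prime ?_ ?_
  · rw [← el_flatten, el_eq (w := (List.replicate D.r D.a).flatten) (w' := []) ?_ rfl h.a_pow]
    · rfl
    · rw [List.all_flatten]
      exact List.all_eq_true.mpr fun l hl => by rw [List.eq_of_mem_replicate hl]; exact ok_of_inCz h.a_ok
  · intro e
    refine h.a1_ne (Subtype.ext ?_)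
    rw [h.a1_val, elC, e]
    rfl

/-- A product of basis elements in the centraliser. -/
noncomputable def qk (x : ℕ) : D.KK := if hx : x < 2 ^ D.n then ⟨D.pz x, h.pz_mem hx⟩ else 1

theorem qk_val {x : ℕ} (hx : x < 2 ^ D.n) : (h.qk x : Cz) = D.pz x := by rw [qk, dif_pos hx]

theorem qk_mem {x : ℕ} (hx : x < 2 ^ D.n) : h.qk x ∈ h.fixQ := by
  rw [h.mem_fixQ, h.qk_val hx]; exact h.pz_Q x

/-- The involution in the centraliser. -/
noncomputable def zK (_ : D.Valid) : D.KK := ⟨Co1Inv.zC, Data.mem_KK.mpr (commute_zC _)⟩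

theorem fixQ_cases {k : D.KK} (hk : k ∈ h.fixQ) : ∃ x < 2 ^ D.n, k = h.qk x ∨ k = h.zK * h.qk x := by
  obtain ⟨x, hx, hc | hc⟩ := h.fixed_cases (h.mem_fixQ.mp hk) (Data.mem_KK.mp k.2)
  · exact ⟨x, hx, Or.inl (Subtype.ext (by rw [h.qk_val hx]; exact hc))⟩
  · exact ⟨x, hx, Or.inr (Subtype.ext (by rw [Subgroup.coe_mul, h.qk_val hx]; exact hc))⟩

theorem zK_mem : h.zK ∈ h.fixQ := zC_mem_Q

theorem fixQ_comm {a b : D.KK} (ha : a ∈ h.fixQ) (hb : b ∈ h.fixQ) : ⁅a, b⁆ = 1 ∨ ⁅a, b⁆ = h.zK := by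
  have hbar : ∀ {k : D.KK}, k ∈ h.fixQ → ∃ x, (QuotientGroup.mk (k : Cz) : Cbar) = D.pb x := fun {k} hk => by
    obtain ⟨x, -, hx⟩ := h.Q_cases (h.mem_fixQ.mp hk)
    exact ⟨x, bar_eq_iff.mpr hx⟩
  obtain ⟨x, hx⟩ := hbar ha
  obtain ⟨y, hy⟩ := hbar hb
  have : ⁅(a : Cz), (b : Cz)⁆ ∈ Subgroup.zpowers Co1Inv.zC := by
    refine (QuotientGroup.eq_one_iff _).mp ?_
    rw [← QuotientGroup.mk'_apply, map_commutatorElement]
    refine commutatorElement_eq_one_iff_mul_comm.mpr ?_
    show (QuotientGroup.mk (a : Cz) : Cbar) * QuotientGroup.mk (b : Cz) = QuotientGroup.mk (b : Cz) * QuotientGroup.mk (a : Cz)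
    rw [hx, hy, ← h.pb_xor, ← h.pb_xor, Nat.xor_comm]
  rcases mem_zpowers_zC.mp this with e | e
  · exact Or.inl (Subtype.ext e)
  · exact Or.inr (Subtype.ext e)

theorem fixQ_center {k : D.KK} (hk : k ∈ h.fixQ) (hc : ∀ a ∈ h.fixQ, Commute a k) : k = 1 ∨ k = h.zK := by
  obtain ⟨x, hx, hcase⟩ := h.fixQ_cases hk
  have hx0 : x = 0 := by
    by_contra hne
    obtain ⟨y, hy, hp⟩ := h.nondeg x hx hne
    have h1 : Commute (h.qk y) (h.qk x) := by
      rcases hcase with e | e <;> rw [e] at hc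
      · exact hc _ (h.qk_mem hy)
      · have h2 : Commute (h.qk y) h.zK := Subtype.ext (commute_zC _).eq
        have h3 := h2.inv_right.mul_right (hc _ (h.qk_mem hy))
        rwa [inv_mul_cancel_left] at h3
    have h4 : Commute (D.pz x) (D.pz y) := by
      have := congrArg Subtype.val h1.eq.symm
      rwa [Subgroup.coe_mul, Subgroup.coe_mul, h.qk_val hx, h.qk_val hy] at this
    rw [h.commute_pz_imp hx hy h4] at hp
    exact Bool.false_ne_true hp
  subst hx0
  have e0 : h.qk 0 = 1 := Subtype.ext (by rw [h.qk_val hx]; simp [Data.pz])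
  rcases hcase with e | e <;> rw [e, e0]
  · exact Or.inl rfl
  · exact Or.inr (mul_one _)

theorem el_g_comm : Commute (D.a1 : Spor.Co1) (elC D.g) := by
  show (D.a1 : Spor.Co1) * elC D.g = elC D.g * D.a1
  rw [h.a1_val, ← elC_append, ← elC_append]
  exact (elC_eq_iff (all_ok_append (ok_of_inCz h.a_ok) h.g_ok) (all_ok_append h.g_ok (ok_of_inCz h.a_ok))).mpr h.g_comm

theorem el_g_conj : elC D.g * zInv = (D.pz D.xw : Spor.Co1) * elC D.g := by
  rw [(h.pw_spec D.xw).2, ← elC_zW, ← elC_append, ← elC_append]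
  exact (elC_eq_iff (all_ok_append h.g_ok zW_ok) (all_ok_append (h.pw_spec D.xw).1 h.g_ok)).mpr h.g_conj

variable {ι : Type} [Fintype ι] [DecidableEq ι] (e : ι ≃ Fin D.n) (Q : (ι → ZMod 2) → ZMod 2)
  (hq : ∀ x < 2 ^ D.n, Q (Classical.OrthH1.dec e x) = ofBit (D.qN x))

include e hq

/-- The section. -/
theorem section_exists (hsize : (D.es.map (·.2)).prod = h.size * D.r)
    (hΩ : Nat.card (Omega (ZMod 2) Q) = h.size) (hΩs : IsSimpleGroup (Omega (ZMod 2) Q))
    (heven : 2 ∣ h.size) (hns : ¬ Group.IsSolvable (Omega (ZMod 2) Q)) :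
    ∃ A : Subgroup ↥Cfsg.Co0, Nat.card A = D.r ∧
      ∃ (_ : ((A ⊔ Subgroup.center ↥Cfsg.Co0).subgroupOf (Subgroup.centralizer (A : Set ↥Cfsg.Co0))).Normal),
      ∃ (S : Type) (_ : Group S) (_ : Finite S),
        Nonempty (S ≃* ↥(Subgroup.centralizer (A : Set ↥Cfsg.Co0)) ⧸
          (A ⊔ Subgroup.center ↥Cfsg.Co0).subgroupOf (Subgroup.centralizer (A : Set ↥Cfsg.Co0))) ∧
        IsSimpleGroup S ∧ ¬ IsMulCommutative S ∧ ∃ z : S, orderOf z = 2 ∧
        ∃ (R : Subgroup (Subgroup.centralizer ({z} : Set S))) (_ : R.Normal),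
          Cfsg.generalizedFittingSubgroup (Subgroup.centralizer ({z} : Set S)) = R ∧ Cfsg.IsExtraspecial 2 R ∧
          Nat.card R = 2 ^ (D.n + 1) ∧
          Nonempty ((Subgroup.centralizer ({z} : Set S)) ⧸ R ≃* Omega (ZMod 2) Q) ∧
          ∃ g : S, (∃ hm : g * z * g⁻¹ ∈ Subgroup.centralizer ({z} : Set S),
            (⟨g * z * g⁻¹, hm⟩ : Subgroup.centralizer ({z} : Set S)) ∈ R) ∧ g * z * g⁻¹ ≠ z := by
  classical
  haveI : Finite ↥Cfsg.Co0 := Nat.finite_of_card_ne_zero (by rw [card_co0]; norm_num)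
  have hr2 : Nat.Coprime D.r 2 := (Nat.coprime_primes h.r_prime Nat.prime_two).mpr h.r_odd
  obtain ⟨himg, hker⟩ := h.image_kernel e Q hq hsize hΩ
  set ā : Spor.Co1 := (D.a1 : Spor.Co1) with hā
  have hāord : orderOf ā = D.r := by rw [hā, Subgroup.orderOf_coe]; exact h.orderOf_a1
  let K1 : Subgroup Spor.Co1 := Subgroup.centralizer ({ā} : Set Spor.Co1)
  let A1 : Subgroup K1 := (Subgroup.zpowers ā).subgroupOf K1
  haveI : A1.Normal := ⟨fun c hc x => by
    obtain ⟨i, hi⟩ := Subgroup.mem_zpowers_iff.mp (Subgroup.mem_subgroupOf.mp hc)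
    rw [Subgroup.mem_subgroupOf, Subgroup.coe_mul, Subgroup.coe_mul, Subgroup.coe_inv, ← hi,
      ((show Commute (x : Spor.Co1) ā from Subgroup.mem_centralizer_singleton_iff.mp x.2).zpow_right i).eq,
      mul_inv_cancel_right]
    exact Subgroup.mem_zpowers_iff.mpr ⟨i, rfl⟩⟩
  -- the section as the centraliser in the lattice group modulo the element and the centre
  set a0 := el D.a with ha0
  set A := Subgroup.zpowers a0 with hA
  have hmk : ∀ k : Co0, (QuotientGroup.mk' (Subgroup.center Co0)) k = QuotientGroup.mk k := fun _ => rfl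
  have hā0 : (QuotientGroup.mk a0 : Spor.Co1) = ā := (h.a1_val).symm
  let Φ : Subgroup.centralizer (A : Set ↥Cfsg.Co0) →* K1 :=
    ((QuotientGroup.mk' (Subgroup.center Co0)).comp (Subgroup.centralizer (A : Set ↥Cfsg.Co0)).subtype).codRestrict K1
      fun k => by
        refine Subgroup.mem_centralizer_singleton_iff.mpr ?_
        show QuotientGroup.mk (k : Co0) * ā = ā * QuotientGroup.mk (k : Co0)
        rw [← hā0, ← QuotientGroup.mk_mul, ← QuotientGroup.mk_mul,
          Subgroup.mem_centralizer_iff.mp k.2 a0 (Subgroup.mem_zpowers a0)]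
  let χ := (QuotientGroup.mk' A1).comp Φ
  have hΦ : Function.Surjective Φ := by
    rintro ⟨x, hx⟩
    induction x using QuotientGroup.induction_on with
    | _ k =>
      have hkc : (QuotientGroup.mk (k * a0) : Spor.Co1) = QuotientGroup.mk (a0 * k) := by
        rw [QuotientGroup.mk_mul, QuotientGroup.mk_mul, hā0]
        exact Subgroup.mem_centralizer_singleton_iff.mp hx
      rcases mk_eq_iff.mp hkc with hk | hk
      · refine ⟨⟨k, Subgroup.mem_centralizer_iff.mpr fun y hy => ?_⟩, rfl⟩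
        obtain ⟨i, rfl⟩ := Subgroup.mem_zpowers_iff.mp hy
        exact ((show Commute k a0 from hk).zpow_right i).symm.eq
      · exfalso
        refine negOne_ne_one ?_
        have hconj : k * a0 * k⁻¹ = negOne * a0 := by rw [hk]; group
        have hpow : (k * a0 * k⁻¹) ^ D.r = 1 := by
          rw [conj_pow, ha0, ← h.orderOf_el_a, pow_orderOf_eq_one, mul_one, mul_inv_cancel]
        have hc : Commute negOne a0 := negOne_comm a0
        rw [hconj, hc.mul_pow, ha0, show el D.a ^ D.r = 1 by rw [← h.orderOf_el_a, pow_orderOf_eq_one], mul_one] at hpow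
        obtain ⟨m, hm⟩ := (h.r_prime.eq_two_or_odd').resolve_left h.r_odd
        have hsq : negOne * negOne = 1 := by
          rw [← el_negW, ← el_append, el_eq (w := negW ++ negW) (w' := []) (by decide +kernel) rfl (by decide +kernel)]
          rfl
        rw [hm, pow_succ, pow_mul, pow_two, hsq, one_pow, one_mul] at hpow
        exact hpow
  have hχ : Function.Surjective χ := (QuotientGroup.mk'_surjective A1).comp hΦ
  have hχker : χ.ker = (A ⊔ Subgroup.center ↥Cfsg.Co0).subgroupOf (Subgroup.centralizer (A : Set ↥Cfsg.Co0)) := by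
    have e1 : A ⊔ Subgroup.center ↥Cfsg.Co0 =
        (Subgroup.zpowers ā).comap (QuotientGroup.mk' (Subgroup.center Co0)) := by
      rw [← hā0, ← hmk, ← MonoidHom.map_zpowers, Subgroup.comap_map_eq, QuotientGroup.ker_mk']
    rw [e1]
    ext k
    rw [MonoidHom.mem_ker, MonoidHom.comp_apply, QuotientGroup.mk'_apply, QuotientGroup.eq_one_iff]
    rfl
  haveI hn : ((A ⊔ Subgroup.center ↥Cfsg.Co0).subgroupOf (Subgroup.centralizer (A : Set ↥Cfsg.Co0))).Normal :=
    hχker ▸ MonoidHom.normal_ker χ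
  refine ⟨A, by rw [hA, Nat.card_zpowers, ha0, h.orderOf_el_a], hn, K1 ⧸ A1, inferInstance, inferInstance,
    ⟨((QuotientGroup.quotientKerEquivOfSurjective χ hχ).symm.trans (QuotientGroup.quotientMulEquivOfEq hχker))⟩, ?_⟩
  -- the involution
  have hzK1 : zInv ∈ K1 := Subgroup.mem_centralizer_singleton_iff.mpr
    (Subgroup.mem_centralizer_singleton_iff.mp D.a1.2).symm
  set zS : K1 ⧸ A1 := QuotientGroup.mk (⟨zInv, hzK1⟩ : K1) with hzS
  have hsmall : ∀ c ∈ Subgroup.zpowers ā, c * c = 1 → c = 1 := fun c hc hcc => by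
    rw [← orderOf_eq_one_iff]
    refine Nat.eq_one_of_dvd_coprimes hr2 ?_ (orderOf_dvd_of_pow_eq_one (by rw [pow_two]; exact hcc))
    rw [← hāord, ← Nat.card_zpowers ā, ← Subgroup.orderOf_mk c hc]
    exact orderOf_dvd_natCard _
  have hzz : zInv * zInv = 1 := by rw [← pow_two, ← orderOf_zInv, pow_orderOf_eq_one]
  have hzne : zS ≠ 1 := fun hz => by
    have h1 := hsmall zInv ((QuotientGroup.eq_one_iff (N := A1) (⟨zInv, hzK1⟩ : K1)).mp hz) hzz
    have := orderOf_zInv
    rw [h1, orderOf_one] at this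
    omega
  have hord : orderOf zS = 2 := by
    haveI : Fact (Nat.Prime 2) := ⟨Nat.prime_two⟩
    refine orderOf_eq_prime ?_ hzne
    rw [pow_two, hzS, ← QuotientGroup.mk_mul]
    rw [show (⟨zInv, hzK1⟩ : K1) * ⟨zInv, hzK1⟩ = 1 from Subtype.ext hzz, QuotientGroup.mk_one]
  have hKmem : ∀ k : D.KK, ((k : Cz) : Spor.Co1) ∈ K1 := fun k => by
    refine Subgroup.mem_centralizer_singleton_iff.mpr ?_
    exact (congrArg Subtype.val (Data.mem_KK.mp k.2).eq).symm
  let ψ : D.KK →* Subgroup.centralizer ({zS} : Set (K1 ⧸ A1)) :=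
    ((QuotientGroup.mk' A1).comp ((Cz.subtype.comp D.KK.subtype).codRestrict K1 hKmem)).codRestrict _ fun k => by
      refine Subgroup.mem_centralizer_singleton_iff.mpr ?_
      show (QuotientGroup.mk (⟨((k : Cz) : Spor.Co1), hKmem k⟩ : K1) : K1 ⧸ A1) * zS = zS * QuotientGroup.mk _
      rw [hzS, ← QuotientGroup.mk_mul, ← QuotientGroup.mk_mul]
      exact congrArg QuotientGroup.mk (Subtype.ext (Subgroup.mem_centralizer_singleton_iff.mp (k : Cz).2))
  have hψ : Function.Surjective ψ := by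
    rintro ⟨s, hs⟩
    induction s using QuotientGroup.induction_on with
    | _ x =>
      have h1 := Subgroup.mem_centralizer_singleton_iff.mp hs
      rw [hzS, ← QuotientGroup.mk_mul, ← QuotientGroup.mk_mul, QuotientGroup.eq] at h1
      set c : Spor.Co1 := ((x : Spor.Co1) * zInv)⁻¹ * (zInv * x) with hc
      have hcA : c ∈ Subgroup.zpowers ā := h1
      have hcz : Commute c zInv := by
        obtain ⟨i, hi⟩ := Subgroup.mem_zpowers_iff.mp hcA
        rw [← hi]
        exact ((show Commute ā zInv from Subgroup.mem_centralizer_singleton_iff.mp D.a1.2).zpow_left i)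
      have e1 : (x : Spor.Co1)⁻¹ * zInv * x = zInv * c := by rw [hc]; group
      have e2 : c * c = 1 := by
        have h2 : ((x : Spor.Co1)⁻¹ * zInv * x) * ((x : Spor.Co1)⁻¹ * zInv * x) = 1 := by
          calc _ = (x : Spor.Co1)⁻¹ * (zInv * zInv) * x := by group
            _ = 1 := by rw [hzz]; group
        rw [e1, hcz.mul_mul_mul_comm, hzz, one_mul] at h2
        exact h2
      have hx : (x : Spor.Co1) ∈ Cz := by
        refine Subgroup.mem_centralizer_singleton_iff.mpr ?_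
        rw [hsmall c hcA e2, mul_one] at e1
        calc (x : Spor.Co1) * zInv = x * ((x : Spor.Co1)⁻¹ * zInv * x) := by rw [e1]
          _ = zInv * x := by group
      have hxK : (⟨(x : Spor.Co1), hx⟩ : Cz) ∈ D.KK :=
        Data.mem_KK.mpr (Subtype.ext (Subgroup.mem_centralizer_singleton_iff.mp x.2).symm)
      exact ⟨⟨_, hxK⟩, rfl⟩
  have hψker : ∀ k : D.KK, ψ k = 1 ↔ ∃ i : ℤ, k = h.aK ^ i := fun k => by
    constructor
    · intro hk
      have h1 : ((k : Cz) : Spor.Co1) ∈ Subgroup.zpowers ā :=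
        (QuotientGroup.eq_one_iff (N := A1) _).mp (congrArg Subtype.val hk)
      obtain ⟨i, hi⟩ := Subgroup.mem_zpowers_iff.mp h1
      exact ⟨i, Subtype.ext (Subtype.ext (by
        rw [← hi, SubgroupClass.coe_zpow, SubgroupClass.coe_zpow]; rfl))⟩
    · rintro ⟨i, rfl⟩
      refine Subtype.ext ((QuotientGroup.eq_one_iff (N := A1) _).mpr ?_)
      show (((h.aK ^ i : D.KK) : Cz) : Spor.Co1) ∈ Subgroup.zpowers ā
      rw [SubgroupClass.coe_zpow, SubgroupClass.coe_zpow]
      exact Subgroup.mem_zpowers_iff.mpr ⟨i, rfl⟩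
  have hψinj : ∀ k ∈ h.fixQ, ψ k = 1 → k = 1 := fun k hk hk1 => by
    obtain ⟨i, rfl⟩ := (hψker k).mp hk1
    exact h.zpow_aK_Q hk
  let R : Subgroup (Subgroup.centralizer ({zS} : Set (K1 ⧸ A1))) := h.fixQ.map ψ
  haveI hfn : h.fixQ.Normal := Q_normal.subgroupOf _
  haveI hRn : R.Normal := hfn.map ψ hψ
  let θΩ : D.KK →* Omega (ZMod 2) Q :=
    (h.theta e Q hq).codRestrict _ fun k => himg ▸ ⟨k, rfl⟩
  have hθker : ∀ k, θΩ k = 1 ↔ ∃ i : ℤ, ∃ q ∈ h.fixQ, k = h.aK ^ i * q := fun k => by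
    rw [← hker k, MonoidHom.mem_ker]
    exact ⟨fun hk => congrArg Subtype.val hk, fun hk => Subtype.ext hk⟩
  have hle : ψ.ker ≤ θΩ.ker := fun k hk => by
    obtain ⟨i, rfl⟩ := (hψker k).mp hk
    exact (hθker _).mpr ⟨i, 1, one_mem _, (mul_one _).symm⟩
  let θS := ψ.liftOfSurjective hψ ⟨θΩ, hle⟩
  have hθS : ∀ k, θS (ψ k) = θΩ k := fun k => MonoidHom.liftOfRightInverse_comp_apply ψ _ _ _ k
  have hθsurj : Function.Surjective θS := fun w => by
    obtain ⟨k, hk⟩ := (show (w : isometryGroup (ZMod 2) Q) ∈ (h.theta e Q hq).range by rw [himg]; exact w.2)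
    exact ⟨ψ k, by rw [hθS]; exact Subtype.ext hk⟩
  have hRker : θS.ker = R := by
    ext s
    obtain ⟨k, rfl⟩ := hψ s
    rw [MonoidHom.mem_ker, hθS, hθker]
    constructor
    · rintro ⟨i, q, hq', rfl⟩
      refine ⟨q, hq', ?_⟩
      rw [map_mul, (hψker _).mpr ⟨i, rfl⟩, one_mul]
    · rintro ⟨q, hq', hqk⟩
      obtain ⟨i, hi⟩ := (hψker (k * q⁻¹)).mp (by rw [map_mul, map_inv, hqk, mul_inv_cancel])
      exact ⟨i, q, hq', by rw [← hi, inv_mul_cancel_right]⟩
  let eR : (Subgroup.centralizer ({zS} : Set (K1 ⧸ A1))) ⧸ R ≃* Omega (ZMod 2) Q :=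
    (QuotientGroup.quotientMulEquivOfEq hRker.symm).trans (QuotientGroup.quotientKerEquivOfSurjective θS hθsurj)
  have hzc : ψ h.zK = zc zS := Subtype.ext rfl
  have hcardR : Nat.card R = 2 ^ (D.n + 1) := by
    rw [← h.card_fixQ]
    refine (Nat.card_eq_of_bijective (fun k : h.fixQ => (⟨ψ k, Subgroup.mem_map_of_mem ψ k.2⟩ : R)) ⟨?_, ?_⟩).symm
    · intro a b hab
      have h1 : ψ ((a : D.KK) * (b : D.KK)⁻¹) = 1 := by
        rw [map_mul, map_inv, show ψ a = ψ b from congrArg Subtype.val hab, mul_inv_cancel]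
      exact Subtype.ext (mul_inv_eq_one.mp (hψinj _ (mul_mem a.2 (inv_mem b.2)) h1))
    · rintro ⟨s, k, hk, rfl⟩
      exact ⟨⟨k, hk⟩, rfl⟩
  have hP : IsPGroup 2 R := IsPGroup.of_card hcardR
  have hself : Subgroup.centralizer (R : Set (Subgroup.centralizer ({zS} : Set (K1 ⧸ A1)))) ≤ R := by
    intro s hs
    obtain ⟨k, rfl⟩ := hψ s
    rw [← hRker, MonoidHom.mem_ker, hθS]
    refine Subtype.ext ((h.theta_eq_one_iff e Q hq k).mpr fun x hx => h.cc_eq k hx hx ?_)
    have h1 : ψ ⁅k, h.qk x⁆ = 1 := by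
      rw [map_commutatorElement, commutatorElement_eq_one_iff_mul_comm]
      exact (Subgroup.mem_centralizer_iff.mp hs _ (Subgroup.mem_map_of_mem ψ (h.qk_mem hx))).symm
    have h2 := hψinj _ (by
      rw [commutatorElement_def]
      exact mul_mem (hfn.conj_mem _ (h.qk_mem hx) k) (inv_mem (h.qk_mem hx))) h1
    have h3 : (k : Cz) * D.pz x = D.pz x * (k : Cz) := by
      have := congrArg Subtype.val (commutatorElement_eq_one_iff_mul_comm.mp h2)
      rwa [Subgroup.coe_mul, Subgroup.coe_mul, h.qk_val hx] at this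
    show (QuotientGroup.mk ((k : Cz) * D.pz x * (k : Cz)⁻¹) : Cbar) = D.pb x
    rw [h3, mul_inv_cancel_right]
    rfl
  have hloc : Loc zS R := by
    refine ⟨hord, hP, ⟨h.zK, h.zK_mem, hzc⟩, ?_, ?_, ?_, hself⟩
    · rintro _ ⟨a, ha, rfl⟩ _ ⟨b, hb, rfl⟩
      rw [← map_commutatorElement]
      rcases h.fixQ_comm ha hb with e1 | e1 <;> rw [e1]
      · exact Or.inl (map_one ψ)
      · exact Or.inr hzc
    · rintro _ ⟨k, hk, rfl⟩ hall
      rcases h.fixQ_center hk fun a ha => by
          refine commutatorElement_eq_one_iff_mul_comm.mp (hψinj _ ?_ ?_)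
          · rcases h.fixQ_comm ha hk with e1 | e1 <;> rw [e1]
            · exact one_mem _
            · exact h.zK_mem
          · rw [map_commutatorElement, commutatorElement_eq_one_iff_mul_comm]
            exact hall _ (Subgroup.mem_map_of_mem ψ ha) with e1 | e1 <;> rw [e1]
      · exact Or.inl (map_one ψ)
      · exact Or.inr hzc
    · rw [hcardR]
      exact Nat.pow_le_pow_right (by norm_num) (by have := h.n_ge; omega)
  haveI : IsSimpleGroup ((Subgroup.centralizer ({zS} : Set (K1 ⧸ A1))) ⧸ R) := haveI := hΩs; eR.isSimpleGroup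
  -- the conjugate of the involution
  obtain ⟨hxw, hxw0⟩ := h.xw_ok
  set w := ψ (h.qk D.xw) with hw
  have hgK : elC D.g ∈ K1 := Subgroup.mem_centralizer_singleton_iff.mpr h.el_g_comm.eq.symm
  have hconj : (QuotientGroup.mk (⟨elC D.g, hgK⟩ : K1) : K1 ⧸ A1) * zS * (QuotientGroup.mk (⟨elC D.g, hgK⟩ : K1))⁻¹ =
      (w : K1 ⧸ A1) := by
    refine (congrArg (QuotientGroup.mk (s := A1)) (Subtype.ext ?_) :
      (QuotientGroup.mk ((⟨elC D.g, hgK⟩ : K1) * ⟨zInv, hzK1⟩ * (⟨elC D.g, hgK⟩ : K1)⁻¹) : K1 ⧸ A1) =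
        QuotientGroup.mk (⟨(((h.qk D.xw : D.KK) : Cz) : Spor.Co1), hKmem _⟩ : K1))
    show elC D.g * zInv * (elC D.g)⁻¹ = (((h.qk D.xw : D.KK) : Cz) : Spor.Co1)
    rw [h.el_g_conj, h.qk_val hxw, mul_inv_cancel_right]
  have hwz : w ≠ zc zS := fun ew => by
    rw [hw, ← hzc] at ew
    have h1 : ψ (h.qk D.xw * h.zK⁻¹) = 1 := by rw [map_mul, map_inv, ew, mul_inv_cancel]
    have h2 := mul_inv_eq_one.mp (hψinj _ (mul_mem (h.qk_mem hxw) (inv_mem h.zK_mem)) h1)
    have h3 : D.pb D.xw = 1 := by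
      show (QuotientGroup.mk (D.pz D.xw) : Cbar) = QuotientGroup.mk 1
      rw [bar_eq_iff, mul_one, ← h.qk_val hxw, h2]
      exact Or.inr rfl
    exact hxw0 (h.pb_eq_one (lt_of_lt_of_le hxw h.two_pow_n) h3)
  have hgen : ∀ M : Subgroup (Subgroup.centralizer ({zS} : Set (K1 ⧸ A1))), M.Normal → w ∈ M → R ≤ M := by
    intro M hM hwM
    let X := M.comap ψ
    haveI hXn : X.Normal := hM.comap ψ
    have hwX : h.qk D.xw ∈ X := hwM
    obtain ⟨y, hy, hyp⟩ := h.nondeg D.xw hxw hxw0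
    have hzX : h.zK ∈ X := by
      rcases h.fixQ_comm (h.qk_mem hxw) (h.qk_mem hy) with e1 | e1
      · exfalso
        have h2 := congrArg Subtype.val (commutatorElement_eq_one_iff_mul_comm.mp e1)
        rw [Subgroup.coe_mul, Subgroup.coe_mul, h.qk_val hxw, h.qk_val hy] at h2
        rw [h.commute_pz_imp hxw hy h2] at hyp
        exact Bool.false_ne_true hyp
      · rw [← e1, commutatorElement_def, mul_assoc, mul_assoc, ← mul_assoc (h.qk y)]
        exact mul_mem hwX (hXn.conj_mem _ (inv_mem hwX) _)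
    have key : ∀ (k : D.KK) (x : ℕ), x < 2 ^ D.n → (QuotientGroup.mk (k : Cz) : Cbar) = D.pb x → k ∈ X →
        h.qk x ∈ X := by
      intro k x hx hkx hkX
      rcases bar_eq_iff.mp hkx with e1 | e1
      · rwa [show h.qk x = k from Subtype.ext (by rw [h.qk_val hx]; exact e1.symm)]
      · rw [show h.qk x = h.zK⁻¹ * k from Subtype.ext (by
          rw [Subgroup.coe_mul, Subgroup.coe_inv, h.qk_val hx, e1]; exact (inv_mul_cancel_left _ _).symm)]
        exact mul_mem (inv_mem hzX) hkX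
    have hxor : ∀ a b, a < 2 ^ D.n → b < 2 ^ D.n → h.qk a ∈ X → h.qk b ∈ X → h.qk (a ^^^ b) ∈ X := by
      intro a b ha hb haX hbX
      refine key (h.qk a * h.qk b) _ (Nat.xor_lt_two_pow ha hb) ?_ (mul_mem haX hbX)
      rw [Subgroup.coe_mul, QuotientGroup.mk_mul, h.qk_val ha, h.qk_val hb, h.pb_xor]
      rfl
    have hbasis : ∀ i < D.n, h.qk (2 ^ i) ∈ X := by
      intro i hi
      obtain ⟨h1, h2⟩ := h.span_ok i hi
      rw [← h2]
      clear h2
      simp only [List.all_eq_true, decide_eq_true_eq] at h1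
      suffices H : ((D.span.getD i []).map fun u => D.wImg u D.xw).foldr (· ^^^ ·) 0 < 2 ^ D.n ∧
          h.qk (((D.span.getD i []).map fun u => D.wImg u D.xw).foldr (· ^^^ ·) 0) ∈ X from H.2
      revert h1
      generalize D.span.getD i [] = l
      intro h1
      induction l with
      | nil =>
        refine ⟨by positivity, ?_⟩
        have : h.qk 0 = 1 := Subtype.ext (by rw [h.qk_val (by positivity)]; simp [Data.pz])
        exact this ▸ one_mem X
      | cons u l ih =>
        obtain ⟨i1, i2⟩ := ih fun v hv => h1 v (List.mem_cons_of_mem _ hv)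
        obtain ⟨u1, u2⟩ := h.theta_word e Q hq u (h1 u List.mem_cons_self) D.xw hxw
        have hu : h.qk (D.wImg u D.xw) ∈ X := by
          refine key ((u.map h.com).prod * h.qk D.xw * (u.map h.com).prod⁻¹) _ u1 ?_ (hXn.conj_mem _ hwX _)
          rw [h.theta_dec e Q hq _ hxw] at u2
          rw [← dec_inj e (h.cc_lt _ _) u1 u2, ← h.cc_spec _ hxw, Subgroup.coe_mul, Subgroup.coe_mul,
            Subgroup.coe_inv, h.qk_val hxw]
          rfl
        rw [List.map_cons, List.foldr_cons]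
        exact ⟨Nat.xor_lt_two_pow u1 i1, hxor _ _ u1 i1 hu i2⟩
    have hall : ∀ x, x < 2 ^ D.n → h.qk x ∈ X := by
      intro x hx
      induction x using Nat.strong_induction_on with
      | _ x ih =>
        by_cases hx0 : x = 0
        · subst hx0
          have : h.qk 0 = 1 := Subtype.ext (by rw [h.qk_val hx]; simp [Data.pz])
          exact this ▸ one_mem X
        · obtain ⟨i, hi, hbelow⟩ := Nat.exists_most_significant_bit hx0
          have hin : i < D.n := by
            by_contra hge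
            rw [Nat.testBit_lt_two_pow (lt_of_lt_of_le hx (Nat.pow_le_pow_right (by norm_num) (not_lt.mp hge)))] at hi
            exact Bool.false_ne_true hi
          have hlt : x ^^^ 2 ^ i < x := Nat.lt_of_testBit i (by simp [Nat.testBit_xor, Nat.testBit_two_pow_self, hi]) hi
            fun j hj => by
              rw [Nat.testBit_xor, Nat.testBit_two_pow_of_ne (by omega), Bool.xor_false]
          have := hxor _ _ (hlt.trans hx) (Nat.pow_lt_pow_right (by norm_num) hin) (ih _ hlt (hlt.trans hx))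
            (hbasis i hin)
          rwa [Nat.xor_assoc, Nat.xor_self, Nat.xor_zero] at this
    rintro _ ⟨k, hk, rfl⟩
    obtain ⟨x, hx, rfl | rfl⟩ := h.fixQ_cases hk
    · exact hall x hx
    · exact mul_mem hzX (hall x hx) |> fun t => t
  obtain ⟨hsimple, hnc⟩ := isSimpleGroup_of_local hloc (w := w) (by rw [Nat.card_congr eR.toEquiv, hΩ]; exact heven)
    (Subgroup.mem_map_of_mem ψ (h.qk_mem hxw)) hwz ⟨_, hconj⟩ hgen
  refine ⟨hsimple, hnc, zS, hord, R, hRn, genFitting_of R hP ?_ hself, ?_, hcardR, ⟨eR⟩, ?_⟩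
  · intro hsol
    exact hns (Group.isSolvable_of_surjective (f := eR.toMonoidHom) eR.surjective)
  · obtain ⟨a, ha, b, hb, -, -, hab⟩ := hloc.exists_pair (w := w) (Subgroup.mem_map_of_mem ψ (h.qk_mem hxw))
    refine Cfsg.Lib.LargeExtra.isExtraspecial_of (z := zc zS) hP hloc.z_mem (hloc.zc_ne)
      (Subtype.ext hloc.z_sq) (fun c _ => commute_zc c) hloc.comm ?_ hloc.cen ⟨a, ha, b, hb, fun hc => ?_⟩
    · rintro _ ⟨k, hk, rfl⟩
      obtain ⟨x, hx, hxc⟩ := h.fixQ_cases hk
      have hbar : (QuotientGroup.mk (k : Cz) : Cbar) = D.pb x := by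
        rw [Data.pb, bar_eq_iff]
        rcases hxc with rfl | rfl
        · exact Or.inl (h.qk_val hx)
        · exact Or.inr (by rw [Subgroup.coe_mul, h.qk_val hx]; rfl)
      have hk2 := h.sq_of_bar hx hbar
      rw [← map_mul]
      cases hqx : D.qN x <;> rw [hqx] at hk2
      · exact Or.inl (by rw [show k * k = 1 from Subtype.ext hk2, map_one])
      · exact Or.inr (by rw [show k * k = h.zK from Subtype.ext hk2, hzc])
    · exact hloc.zc_ne (hab.symm.trans (commutatorElement_eq_one_iff_mul_comm.mpr hc.eq))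
  · refine ⟨(QuotientGroup.mk (⟨elC D.g, hgK⟩ : K1) : K1 ⧸ A1), ⟨?_, ?_⟩, fun heq => hwz ?_⟩
    · rw [hconj]; exact w.2
    · rw [show (⟨_, _⟩ : Subgroup.centralizer ({zS} : Set (K1 ⧸ A1))) = w from Subtype.ext hconj]
      exact Subgroup.mem_map_of_mem ψ (h.qk_mem hxw)
    · exact Subtype.ext (hconj.symm.trans heq)

end Data.Valid

end Cfsg.Lib.Leech.Co0Section
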