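import Cfsg.Agent.Leech.Co0Section.Action

/-!
# The bound for the centraliser, and the image and kernel of its action
-/

set_option autoImplicit false
set_option linter.style.haveILetI false

namespace Cfsg.Lib.Leech.Co0Section

open Cfsg Cfsg.Lib.Golay Cfsg.Lib.Leech Cfsg.Lib.Leech.Co1Inv Stab
open scoped Matrix
open Cfsg.Lib.Leech.Mult (el el_eq el_append)
open Cfsg.Lib.Classical.OrthH1 (lN exists_code ofBit ofBit_xor)

theorem qV_eq : ∀ x < 256, quadFormPlus 4 (ZMod 2) (Classical.OrthH1.dec eV x) = ofBit (qV x) := by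
  unfold quadFormPlus
  decide +kernel

theorem qV_eq' {x : ℕ} (hx : x < 256) :
    quadFormPlus 4 (ZMod 2) (Classical.OrthH1.dec eV x) = ofBit (qV x) := qV_eq x hx

theorem ofBit_inj {a b : Bool} (e : ofBit a = ofBit b) : a = b := by
  revert e
  cases a <;> cases b <;> decide

theorem el_flatten (a : List Atom) : ∀ r : ℕ, el (List.replicate r a).flatten = el a ^ r
  | 0 => rfl
  | r + 1 => by rw [List.replicate_succ, List.flatten_cons, el_append, el_flatten a r, pow_succ']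

variable {D : Data}

/-- The image of the centraliser on the octad part. -/
noncomputable def Data.RK (D : Data) : Subgroup (isometryGroup (ZMod 2) (quadFormPlus 4 (ZMod 2))) :=
  D.KK.map rhoBar

namespace Data.Valid

variable (h : D.Valid)
include h

theorem a1_pow : D.a1 ^ D.r = 1 := by
  refine Subtype.ext ?_
  rw [SubmonoidClass.coe_pow, h.a1_val, elC, ← QuotientGroup.mk_pow, ← el_flatten,
    el_eq (w := (List.replicate D.r D.a).flatten) (w' := []) ?_ rfl h.a_pow]
  · rfl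
  · rw [List.all_flatten]
    exact List.all_eq_true.mpr fun l hl => by rw [List.eq_of_mem_replicate hl]; exact ok_of_inCz h.a_ok

theorem a1_ne : D.a1 ≠ 1 := fun e => by
  have := (h.eq_of_check (ok_of_inCz h.a_ok) (v := []) rfl h.a1_val (q := 1) rfl).mpr e
  rw [h.a_ne] at this
  exact Bool.false_ne_true this

theorem orderOf_a1 : orderOf D.a1 = D.r :=
  haveI : Fact D.r.Prime := ⟨h.r_prime⟩
  orderOf_eq_prime h.a1_pow h.a1_ne

theorem rhoBar_a1 {x : ℕ} :
    vecPerm _ (rhoBar D.a1) (Classical.OrthH1.dec eV x) = Classical.OrthH1.dec eV (lN 8 (rimg D.a) x) := by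
  rw [vecPerm_apply, Data.a1, cz, dif_pos h.a_ok, rhoBar_proj]
  exact (matU_mulVec _ _).trans (act_el (ok_of_inCz h.a_ok) (el_mem_Cg h.a_ok) x)

theorem rimg_lt {x : ℕ} : lN 8 (rimg D.a) x < 256 := by
  have hall : ∀ y ∈ rimg D.a, y < 256 := fun y hy => by
    obtain ⟨s, -, rfl⟩ := List.mem_map.mp hy
    exact Nat.ofBits_lt_two_pow _
  rw [lN]
  have : ∀ l : List ℕ, (∀ y ∈ l, y < 256) → l.foldr (· ^^^ ·) 0 < 256 := by
    intro l hl
    induction l with
    | nil => norm_num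
    | cons a l ih =>
      exact Nat.xor_lt_two_pow (n := 8) (hl a List.mem_cons_self) (ih fun y hy => hl y (List.mem_cons_of_mem _ hy))
  refine this _ fun y hy => ?_
  obtain ⟨j, -, rfl⟩ := List.mem_map.mp hy
  split
  · by_cases hj : j < (rimg D.a).length
    · rw [List.getD_eq_getElem _ _ hj]; exact hall _ (List.getElem_mem hj)
    · rw [List.getD_eq_default _ _ (not_lt.mp hj)]; norm_num
  · norm_num

theorem tIt_spec (i : ℕ) {x : ℕ} (hx : x < 256) : D.tIt i x < 256 ∧
    vecPerm _ (rhoBar D.a1 ^ i) (Classical.OrthH1.dec eV x) = Classical.OrthH1.dec eV (D.tIt i x) := by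
  induction i with
  | zero => exact ⟨hx, by simp [Data.tIt]⟩
  | succ i ih =>
    have e : D.tIt (i + 1) x = lN 8 (rimg D.a) (D.tIt i x) := Function.iterate_succ_apply' _ _ _
    refine ⟨e ▸ h.rimg_lt, ?_⟩
    rw [pow_succ', map_mul, Equiv.Perm.mul_apply, ih.2, h.rhoBar_a1, e]

theorem RK_comm {g : isometryGroup (ZMod 2) (quadFormPlus 4 (ZMod 2))} (hg : g ∈ D.RK) (i : ℕ) :
    Commute g (rhoBar D.a1 ^ i) := by
  obtain ⟨k, hk, rfl⟩ := hg
  exact (((Data.mem_KK.mp hk).symm).map rhoBar).pow_right i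

theorem up_move {g : isometryGroup (ZMod 2) (quadFormPlus 4 (ZMod 2))} (hg : g ∈ D.RK) {prev : List ℕ}
    (hp : ∀ f ∈ prev, f < 256) (hfix : ∀ f ∈ prev, vecPerm _ g (Classical.OrthH1.dec eV f) = Classical.OrthH1.dec eV f)
    {e : ℕ} (he : e < 256) :
    D.upS prev e (enc eV (vecPerm _ g (Classical.OrthH1.dec eV e))) = true := by
  set v := enc eV (vecPerm _ g (Classical.OrthH1.dec eV e)) with hv
  have hvlt : v < 256 := enc_lt eV _
  have hdv : Classical.OrthH1.dec eV v = vecPerm _ g (Classical.OrthH1.dec eV e) := dec_enc eV _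
  have hq1 : qV v = qV e := ofBit_inj (by rw [← qV_eq' hvlt, ← qV_eq' he, hdv, isometry_map (quadFormPlus 4 (ZMod 2))])
  have hcomm : ∀ (i x : ℕ), x < 256 → vecPerm _ g (Classical.OrthH1.dec eV (D.tIt i x)) =
      vecPerm _ (rhoBar D.a1 ^ i) (vecPerm _ g (Classical.OrthH1.dec eV x)) := fun i x hx => by
    rw [← (h.tIt_spec i hx).2, ← Equiv.Perm.mul_apply, ← map_mul, (h.RK_comm hg i).eq, map_mul, Equiv.Perm.mul_apply]
  have hpol : ∀ (i x y : ℕ), x < 256 → y < 256 →
      Classical.OrthH1.dec eV y = vecPerm _ g (Classical.OrthH1.dec eV x) →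
      Classical.OrthH1.pN qV v (D.tIt i y) = Classical.OrthH1.pN qV e (D.tIt i x) := fun i x y hx hy hxy => by
    obtain ⟨l1, d1⟩ := h.tIt_spec i hy
    obtain ⟨l2, -⟩ := h.tIt_spec i hx
    refine ofBit_inj ?_
    simp only [Classical.OrthH1.pN, ofBit_xor]
    rw [← qV_eq' (Nat.xor_lt_two_pow (n := 8) hvlt l1), ← qV_eq' hvlt, ← qV_eq' l1,
      ← qV_eq' (Nat.xor_lt_two_pow (n := 8) he l2), ← qV_eq' he, ← qV_eq' l2]
    have e1 : Classical.OrthH1.dec eV (D.tIt i y) = vecPerm _ g (Classical.OrthH1.dec eV (D.tIt i x)) := by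
      rw [← d1, hxy, ← hcomm i x hx]
    rw [Classical.OrthH1.dec_xor, Classical.OrthH1.dec_xor, e1, hdv, vecPerm_apply, vecPerm_apply,
      ← Matrix.mulVec_add, ← vecPerm_apply, ← vecPerm_apply, ← vecPerm_apply, isometry_map (quadFormPlus 4 (ZMod 2)),
      isometry_map (quadFormPlus 4 (ZMod 2)), isometry_map (quadFormPlus 4 (ZMod 2))]
  simp only [Data.upS, Bool.and_eq_true, beq_iff_eq, List.all_eq_true]
  exact ⟨hq1, fun i _ => ⟨hpol i e v he hvlt hdv, fun f hf => hpol i f f (hp f hf) (hp f hf) (hfix f hf).symm⟩⟩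

theorem up_of_chk : ∀ (es : List (ℕ × ℕ)) (prev : List ℕ), (∀ f ∈ prev, f < 256) → (∀ t ∈ es, t.1 < 256) →
    D.upChk prev es = true →
    (∀ g ∈ D.RK, (∀ f ∈ (es.map (·.1)).reverse ++ prev,
      vecPerm _ g (Classical.OrthH1.dec eV f) = Classical.OrthH1.dec eV f) → g = 1) →
    ∃ L : List ((Fin 4 ⊕ Fin 4 → ZMod 2) × Finset (Fin 4 ⊕ Fin 4 → ZMod 2)),
      UpOK (vecPerm _) D.RK (prev.map (Classical.OrthH1.dec eV)) L ∧
        (L.map fun a => a.2.card).prod ≤ (es.map (·.2)).prod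
  | [], prev, _, _, _, htop => ⟨[], fun g hg hfix => htop g hg fun f hf =>
      hfix _ (List.mem_map_of_mem (by simpa using hf)), le_rfl⟩
  | (e, c) :: es, prev, hp, hes, hc, htop => by
    classical
    simp only [Data.upChk, Bool.and_eq_true, decide_eq_true_eq] at hc
    have he : e < 256 := hes (e, c) List.mem_cons_self
    obtain ⟨L, hL, hprod⟩ := up_of_chk es (e :: prev) (by simpa [he] using hp)
      (fun t ht => hes t (List.mem_cons_of_mem _ ht)) hc.2 (fun g hg hfix => htop g hg fun f hf => hfix f (by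
        simp only [List.map_cons, List.reverse_cons, List.append_assoc, List.cons_append, List.nil_append] at hf ⊢
        exact hf))
    refine ⟨(Classical.OrthH1.dec eV e,
      (((List.range 256).filter (D.upS prev e)).map (Classical.OrthH1.dec eV)).toFinset) :: L, ⟨?_, hL⟩, ?_⟩
    · intro g hg hfix
      rw [List.mem_toFinset, List.mem_map]
      refine ⟨_, List.mem_filter.mpr ⟨List.mem_range.mpr (enc_lt eV _),
        h.up_move hg hp (fun f hf => hfix _ (List.mem_map_of_mem hf)) he⟩, dec_enc eV _⟩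
    · rw [List.map_cons, List.map_cons, List.prod_cons, List.prod_cons]
      refine Nat.mul_le_mul ?_ hprod
      exact (List.toFinset_card_le _).trans (by rw [List.length_map]; exact hc.1)

theorem card_RK : Nat.card D.RK ≤ (D.es.map (·.2)).prod := by
  have htop : ∀ g ∈ D.RK, (∀ f ∈ (D.es.map (·.1)).reverse ++ [],
      vecPerm _ g (Classical.OrthH1.dec eV f) = Classical.OrthH1.dec eV f) → g = 1 := by
    intro g hg hfix
    refine vecPerm_injective _ fun v => ?_
    have hbase : ∀ i < 8, vecPerm _ g (Classical.OrthH1.dec eV (2 ^ i)) = Classical.OrthH1.dec eV (2 ^ i) := by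
      intro i hi
      obtain ⟨h1, h2⟩ := h.tspan_ok i hi
      rw [← h2]
      rw [List.all_eq_true] at h1
      clear h2
      revert h1
      generalize D.tspan.getD i [] = l
      intro h1
      induction l with
      | nil => simp [Classical.OrthH1.dec_zero, vecPerm_apply]
      | cons t l ih =>
        rw [List.map_cons, List.foldr_cons, Classical.OrthH1.dec_xor, vecPerm_apply, Matrix.mulVec_add,
          ← vecPerm_apply, ← vecPerm_apply, ih (fun s hs => h1 s (List.mem_cons_of_mem _ hs))]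
        have ht := List.contains_iff_mem.mp (h1 t List.mem_cons_self)
        obtain ⟨s, hs, hse⟩ := List.mem_map.mp ht
        have htlt : t.2 < 256 := hse ▸ h.es_lt s hs
        rw [← (h.tIt_spec t.1 htlt).2, ← Equiv.Perm.mul_apply, ← map_mul, (h.RK_comm hg t.1).eq, map_mul,
          Equiv.Perm.mul_apply, hfix t.2 (by simpa using ⟨s.2, by rw [← hse]; exact hs⟩)]
    have hlin : ∀ j : Fin 4 ⊕ Fin 4, vecPerm _ g (Pi.single j 1) = Pi.single j 1 := fun j => by
      rw [← dec_two_pow eV j]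
      exact hbase _ (eV j).isLt
    rw [vecPerm_apply]
    have hmat : ((g : GL (Fin 4 ⊕ Fin 4) (ZMod 2)) : Matrix (Fin 4 ⊕ Fin 4) (Fin 4 ⊕ Fin 4) (ZMod 2)) = 1 := by
      ext a b
      have := congrFun (hlin b) a
      rw [vecPerm_apply, Matrix.mulVec_single_one] at this
      rw [Matrix.one_apply]
      rw [Pi.single_apply] at this
      exact this
    rw [hmat, Matrix.one_mulVec]
  obtain ⟨L, hL, hprod⟩ := h.up_of_chk D.es [] (by simp) h.es_lt h.up_ok htop
  have := (card_le_levels (vecPerm _) D.RK L [] hL).trans hprod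
  have heq : D.RK ⊓ fixList (vecPerm _) [] = D.RK := inf_top_eq _
  rwa [heq] at this

/-- The fixed points inside the centraliser. -/
noncomputable def fixQ (_ : D.Valid) : Subgroup D.KK := Co1Inv.Q.subgroupOf D.KK

theorem mem_fixQ {k : D.KK} : k ∈ h.fixQ ↔ (k : Cz) ∈ Co1Inv.Q := Iff.rfl

theorem pz_mem {x : ℕ} (hx : x < 2 ^ D.n) : D.pz x ∈ D.KK := Data.mem_KK.mpr (h.a1_commute hx)

theorem zC_mem_KK : Co1Inv.zC ∈ D.KK := Data.mem_KK.mpr (commute_zC _)

theorem card_fixQ : Nat.card h.fixQ = 2 ^ (D.n + 1) := by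
  classical
  let F : Fin (2 ^ D.n) × Bool → h.fixQ := fun p =>
    if p.2 then ⟨⟨Co1Inv.zC * D.pz p.1, mul_mem h.zC_mem_KK (h.pz_mem p.1.2)⟩, mul_mem zC_mem_Q (h.pz_Q _)⟩
    else ⟨⟨D.pz p.1, h.pz_mem p.1.2⟩, h.pz_Q _⟩
  have hF : Function.Bijective F := by
    constructor
    · rintro ⟨x, s⟩ ⟨y, t⟩ e
      have e' : ((if s then Co1Inv.zC * D.pz x else D.pz x) : Cz) = (if t then Co1Inv.zC * D.pz y else D.pz y) := by
        have := congrArg (fun k : h.fixQ => ((k : D.KK) : Cz)) e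
        simp only [F] at this
        cases s <;> cases t <;> simpa using this
      have hb : D.pb x = D.pb y := by
        show (QuotientGroup.mk (D.pz x) : Cbar) = QuotientGroup.mk (D.pz y)
        rw [bar_eq_iff]
        cases s <;> cases t <;> simp only [if_true, if_false, Bool.false_eq_true] at e'
        · exact Or.inl e'
        · exact Or.inr e'
        · exact Or.inr (by rw [← e', ← mul_assoc, zC_sq, one_mul])
        · exact Or.inl (mul_left_cancel e')
      obtain rfl : x = y := Fin.ext (h.pb_inj (lt_of_lt_of_le x.2 h.two_pow_n) (lt_of_lt_of_le y.2 h.two_pow_n) hb)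
      refine Prod.ext rfl ?_
      cases s <;> cases t <;> first | rfl | (exfalso; simp at e'; exact zC_ne e')
    · rintro ⟨⟨q, hqK⟩, hq⟩
      obtain ⟨x, hx, hc | hc⟩ := h.fixed_cases hq (Data.mem_KK.mp hqK)
      · exact ⟨(⟨x, hx⟩, false), Subtype.ext (Subtype.ext hc.symm)⟩
      · exact ⟨(⟨x, hx⟩, true), Subtype.ext (Subtype.ext hc.symm)⟩
  rw [← Nat.card_congr (Equiv.ofBijective F hF)]
  simp [pow_succ]

theorem card_KK : Nat.card D.KK ≤ (D.es.map (·.2)).prod * 2 ^ (D.n + 1) := by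
  set f := rhoBar.comp D.KK.subtype with hf
  have h1 := Subgroup.card_mul_index f.ker
  rw [Subgroup.index_ker] at h1
  have h2 : f.range = D.RK := by
    rw [hf, MonoidHom.range_comp, Subgroup.range_subtype]
    rfl
  have h3 : f.ker = h.fixQ := by
    ext k
    rw [MonoidHom.mem_ker, hf, MonoidHom.comp_apply, h.mem_fixQ, ← rhoBar_ker, MonoidHom.mem_ker]
    rfl
  rw [h2, h3, h.card_fixQ] at h1
  rw [← h1, mul_comm]
  exact Nat.mul_le_mul_right _ h.card_RK

/-- The element of odd order in its centraliser. -/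
noncomputable def aK (_ : D.Valid) : D.KK := ⟨D.a1, Data.mem_KK.mpr rfl⟩

theorem orderOf_aK : orderOf h.aK = D.r := by
  rw [← Subgroup.orderOf_coe]
  exact h.orderOf_a1

theorem zpow_aK_Q {i : ℤ} (hi : h.aK ^ i ∈ h.fixQ) : h.aK ^ i = 1 := by
  rw [← orderOf_eq_one_iff]
  have h1 : orderOf (h.aK ^ i) ∣ D.r :=
    orderOf_dvd_of_pow_eq_one (by
      rw [← zpow_natCast, ← zpow_mul, mul_comm, zpow_mul, zpow_natCast, ← h.orderOf_aK, pow_orderOf_eq_one, one_zpow])
  have h2 : orderOf (h.aK ^ i) ∣ 2 ^ (D.n + 1) := h.card_fixQ ▸ by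
    rw [← Subgroup.orderOf_mk _ hi]
    exact orderOf_dvd_natCard _
  exact Nat.eq_one_of_dvd_coprimes
    (((Nat.coprime_primes h.r_prime Nat.prime_two).mpr h.r_odd).pow_right (D.n + 1)) h1 h2

variable {ι : Type} [Fintype ι] [DecidableEq ι] (e : ι ≃ Fin D.n) (Q : (ι → ZMod 2) → ZMod 2)
  (hq : ∀ x < 2 ^ D.n, Q (Classical.OrthH1.dec e x) = ofBit (D.qN x))

theorem cc_aK {x : ℕ} (hx : x < 2 ^ D.n) : h.cc h.aK x = x :=
  h.cc_eq _ hx hx (by
    show (QuotientGroup.mk (D.a1 * D.pz x * D.a1⁻¹) : Cbar) = D.pb x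
    rw [(h.a1_commute hx).eq, mul_inv_cancel_right]
    rfl)

theorem cc_fixQ {k : D.KK} (hk : k ∈ h.fixQ) {x : ℕ} (hx : x < 2 ^ D.n) : h.cc k x = x := by
  refine h.cc_eq _ hx hx ?_
  obtain ⟨y, -, hy⟩ := h.Q_cases (h.mem_fixQ.mp hk)
  have : (QuotientGroup.mk (k : Cz) : Cbar) = D.pb y := bar_eq_iff.mpr hy
  rw [this, ← h.pb_xor, Nat.xor_comm, h.pb_xor, mul_inv_cancel_right]

include hq

theorem image_kernel (hsize : (D.es.map (·.2)).prod = h.size * D.r)
    (hΩ : Nat.card (Omega (ZMod 2) Q) = h.size) :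
    (h.theta e Q hq).range = Omega (ZMod 2) Q ∧
      ∀ k, k ∈ (h.theta e Q hq).ker ↔ ∃ i : ℤ, ∃ q ∈ h.fixQ, k = h.aK ^ i * q := by
  classical
  set θ := h.theta e Q hq with hθ
  have hr : 0 < D.r := h.r_prime.pos
  have ha : h.aK ∈ θ.ker := (h.theta_eq_one_iff e Q hq _).mpr fun x hx => h.cc_aK hx
  have hQ : h.fixQ ≤ θ.ker := fun k hk => (h.theta_eq_one_iff e Q hq _).mpr fun x hx => h.cc_fixQ hk hx
  let F : Fin D.r × h.fixQ → θ.ker := fun p =>
    ⟨h.aK ^ (p.1 : ℕ) * (p.2 : D.KK), mul_mem (pow_mem ha _) (hQ p.2.2)⟩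
  have hF : Function.Injective F := by
    rintro ⟨i, q⟩ ⟨j, q'⟩ e'
    have e2 : h.aK ^ (i : ℕ) * (q : D.KK) = h.aK ^ (j : ℕ) * (q' : D.KK) := congrArg Subtype.val e'
    have e3 : h.aK ^ ((i : ℤ) - (j : ℤ)) = (q' : D.KK) * (q : D.KK)⁻¹ := by
      rw [zpow_sub, zpow_natCast, zpow_natCast, (Commute.pow_pow_self h.aK (i : ℕ) (j : ℕ)).inv_right.eq,
        eq_mul_inv_iff_mul_eq, mul_assoc, e2, inv_mul_cancel_left]
    have e4 := h.zpow_aK_Q (e3 ▸ mul_mem q'.2 (inv_mem q.2))
    rw [zpow_sub, mul_inv_eq_one, zpow_natCast, zpow_natCast] at e4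
    have hij : i = j := Fin.ext (pow_injOn_Iio_orderOf (by rw [h.orderOf_aK]; exact i.2)
      (by rw [h.orderOf_aK]; exact j.2) e4)
    subst hij
    exact Prod.ext rfl (Subtype.ext (mul_left_cancel e2))
  have hlow : D.r * 2 ^ (D.n + 1) ≤ Nat.card θ.ker := by
    refine le_of_eq_of_le ?_ (Nat.card_le_card_of_injective F hF)
    rw [Nat.card_prod, Nat.card_fin, h.card_fixQ]
  have hsplit := Subgroup.card_mul_index θ.ker
  rw [Subgroup.index_ker] at hsplit
  have hup := h.card_KK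
  rw [hsize, ← hsplit] at hup
  have hgen : h.comGrp e Q hq ≤ θ.range ∧ h.comGrp e Q hq ≤ Omega (ZMod 2) Q := by
    constructor <;> rw [comGrp, Subgroup.closure_le] <;> rintro _ ⟨p, rfl⟩
    · exact ⟨_, rfl⟩
    · show θ (h.com p) ∈ Omega (ZMod 2) Q
      rw [com, map_commutatorElement]
      exact Subgroup.commutator_mem_commutator (Subgroup.mem_top _) (Subgroup.mem_top _)
  have hsz := h.size_le_comGrp e Q hq
  have hC : h.comGrp e Q hq = Omega (ZMod 2) Q := Subgroup.eq_of_le_of_card_ge hgen.2 (hΩ ▸ hsz)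
  have hpos : 0 < h.size := hΩ ▸ Nat.card_pos
  have hRlow : h.size ≤ Nat.card θ.range := hsz.trans (Subgroup.card_le_of_le hgen.1)
  have hkk : Nat.card θ.ker ≤ D.r * 2 ^ (D.n + 1) := by
    by_contra hlt
    have h1 := Nat.mul_le_mul (not_le.mp hlt) hRlow
    rw [Nat.succ_mul] at h1
    have e1 : h.size * D.r * 2 ^ (D.n + 1) = D.r * 2 ^ (D.n + 1) * h.size := by ring
    omega
  refine ⟨?_, fun k => ⟨fun hk => ?_, ?_⟩⟩
  · rw [← hC]
    refine (Subgroup.eq_of_le_of_card_ge hgen.1 ?_).symm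
    rw [hC, hΩ]
    refine Nat.le_of_mul_le_mul_left (?_ : D.r * 2 ^ (D.n + 1) * Nat.card θ.range ≤ D.r * 2 ^ (D.n + 1) * h.size)
      (by positivity)
    have h1 := Nat.mul_le_mul_right (Nat.card θ.range) hlow
    have e1 : h.size * D.r * 2 ^ (D.n + 1) = D.r * 2 ^ (D.n + 1) * h.size := by ring
    omega
  · have hbij : Function.Bijective F :=
      hF.bijective_of_nat_card_le (by rw [Nat.card_prod, Nat.card_fin, h.card_fixQ]; exact hkk)
    obtain ⟨⟨i, q⟩, hiq⟩ := hbij.2 ⟨k, hk⟩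
    exact ⟨(i : ℤ), q, q.2, by rw [zpow_natCast]; exact (congrArg Subtype.val hiq).symm⟩
  · rintro ⟨i, q, hq', rfl⟩
    exact mul_mem (zpow_mem ha i) (hQ hq')

end Data.Valid

end Cfsg.Lib.Leech.Co0Section
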