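import Cfsg.Agent.Leech.Co1Inv.Group
import Cfsg.Agent.Leech.Mult.Elem
import Cfsg.Agent.Classical.OrthH1.Basic

/-!
# Words in the centraliser of the involution of the first Conway group

Equality and inequality of words modulo the centre are decided on the coordinate keys; the action modulo two on the
octad part is read from eight keys.
-/

set_option autoImplicit false
set_option linter.style.haveILetI false
set_option maxRecDepth 100000

namespace Cfsg.Lib.Leech.Co0Section

open Cfsg Cfsg.Lib.Golay Cfsg.Lib.Leech Cfsg.Lib.Leech.Co1Inv Stab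
open Cfsg.Lib.Leech.Mult (el eqW el_eq el_smul el_append ks ks_short ks_ok run run_spec st col pk)

/-- The negation as a word. -/
def negW : List Atom := [.flip 16777215]

/-- The involution as a word. -/
def zW : List Atom := [.flip 5279]

theorem negW_ok : negW.all (·.ok) = true := by decide +kernel

theorem zW_ok : zW.all (·.ok) = true := by decide +kernel

theorem el_flip {m : ℕ} (h : inCode m = true) {c : Finset GolayPt} (hc : c ∈ code) (e : pts m = c) :
    el [Atom.flip m] = mono (one_mem M24) hc := by
  subst e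
  simp only [el, List.map_cons, List.map_nil, List.prod_cons, List.prod_nil, mul_one, atomHom, dif_pos h]

theorem el_negW : el negW = negOne :=
  el_flip (by decide +kernel) univ_mem_code (by decide +kernel)

theorem el_zW : el zW = g0 :=
  el_flip (by decide +kernel) oct_code (by decide +kernel)

theorem el_inj {u v : List Atom} (hu : u.all (·.ok) = true) (hv : v.all (·.ok) = true) (h : el u = el v) :
    eqW u v = true := by
  rw [eqW, beq_iff_eq, run_spec u hu, run_spec v hv]
  refine List.map_congr_left fun i hi => ?_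
  show pk ((ks.map (evalW u)).map fun K => cv K i) = pk ((ks.map (evalW v)).map fun K => cv K i)
  rw [List.map_map, List.map_map]
  refine congrArg pk (List.map_congr_left fun K hK => ?_)
  obtain ⟨s1, e1⟩ := el_smul hu (ks_short K hK)
  obtain ⟨s2, e2⟩ := el_smul hv (ks_short K hK)
  rw [h] at e1
  have e := congrFun (congrArg Subtype.val (e1.symm.trans e2)) (ptAt i)
  simp only [dec, co, show pidx (ptAt i) = i from pidx_ptAt ⟨i, List.mem_range.mp hi⟩] at e
  show cv (evalW u K) i = cv (evalW v K) i
  omega

/-- Equality modulo the centre. -/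
def eqC (u v : List Atom) : Bool := eqW u v || eqW u (negW ++ v)

/-- A word in the quotient by the centre. -/
noncomputable def elC (w : List Atom) : Spor.Co1 := QuotientGroup.mk (el w)

theorem elC_append (u v : List Atom) : elC (u ++ v) = elC u * elC v := by
  rw [elC, el_append, QuotientGroup.mk_mul]; rfl

theorem elC_nil : elC [] = 1 := rfl

theorem elC_zW : elC zW = zInv := by rw [elC, el_zW]; rfl

theorem elC_eq_iff {u v : List Atom} (hu : u.all (·.ok) = true) (hv : v.all (·.ok) = true) :
    elC u = elC v ↔ eqC u v = true := by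
  have hnv : (negW ++ v).all (·.ok) = true := by rw [List.all_append, negW_ok, hv]; rfl
  rw [elC, elC, mk_eq_iff, eqC, Bool.or_eq_true, ← el_negW, ← el_append]
  exact ⟨Or.imp (el_inj hu hv) (el_inj hu hnv), Or.imp (el_eq hu hv) (el_eq hu hnv)⟩

/-- Valid and centralising the involution. -/
def inCz (w : List Atom) : Bool := w.all (·.ok) && eqW (w ++ zW) (zW ++ w)

theorem ok_of_inCz {w : List Atom} (h : inCz w = true) : w.all (·.ok) = true := by
  simp only [inCz, Bool.and_eq_true] at h
  exact h.1

theorem el_mem_Cg {w : List Atom} (h : inCz w = true) : el w ∈ Cg := by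
  have h1 := ok_of_inCz h
  simp only [inCz, Bool.and_eq_true] at h
  have e := el_eq (by rw [List.all_append, h1, zW_ok]; rfl) (by rw [List.all_append, h1, zW_ok]; rfl) h.2
  rw [el_append, el_append, el_zW] at e
  exact Subgroup.mem_centralizer_singleton_iff.mpr e

/-- The coordinates of the eight positions of the octad in the order of the basis. -/
def octN : Fin 8 → ℕ := ![0, 1, 2, 3, 4, 7, 10, 12]

/-- The coding of the eight coordinates. -/
def eV : Fin 4 ⊕ Fin 4 ≃ Fin 8 := finSumFinEquiv

open Cfsg.Lib.Classical.OrthH1 (lN lM lM_mulVec exists_code)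

/-- The class modulo two of a key. -/
def rcode (K : ℕ) : ℕ :=
  Nat.ofBits fun i : Fin 8 => decide (kap (fun k => co K (octN k)) (eV.symm i) = 1)

/-- The keys of the basis of the octad part. -/
def basKey (s : ℕ) : ℕ :=
  packK (fun i => (16 + up (bas (eV.symm (Fin.ofNat 8 s))) (ptAt i)).toNat) 24

theorem octN_spec : ∀ k : Fin 8, pidx (octO k) = octN k := by decide +kernel

theorem dec_rcode (K : ℕ) : Classical.OrthH1.dec eV (rcode K) = kap (res (dec K)) := by
  have e : res (dec K) = fun k => co K (octN k) := funext fun k => by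
    show co K (pidx (octO k)) = _
    rw [octN_spec]
  rw [e]
  funext s
  simp only [Classical.OrthH1.dec, rcode, Nat.testBit_ofBits_lt _ _ (eV s).isLt, Fin.eta, Equiv.symm_apply_apply]
  generalize kap (fun k => co K (octN k)) s = a
  revert a
  decide

theorem basKey_facts : ∀ i : Fin 8, (inL (dec (basKey i)) && decide (Cfsg.sqNorm (dec (basKey i)) ≤ 64)) = true ∧
    (∀ j : Fin 24, ptAt j ∉ oct → co (basKey i) j = 0) ∧
    rcode (basKey i) = 2 ^ (i : ℕ) ∧ Classical.OrthH1.dec eV (2 ^ (i : ℕ)) = Pi.single (eV.symm i) 1 := by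
  decide +kernel

/-- The images of the basis modulo two. -/
def rimg (w : List Atom) : List ℕ := (List.range 8).map fun s => rcode (evalW w (basKey s))

theorem act_el {w : List Atom} (hw : w.all (·.ok) = true) (hm : el w ∈ Cg) (x : ℕ) :
    act ⟨el w, hm⟩ (Classical.OrthH1.dec eV x) = Classical.OrthH1.dec eV (lN 8 (rimg w) x) := by
  rw [← lM_mulVec eV (rimg w) x, ← matU_mulVec]
  refine congrFun (congrArg Matrix.mulVec ?_) _
  ext a b
  obtain ⟨i, rfl⟩ : ∃ i, eV.symm i = b := ⟨eV b, eV.symm_apply_apply b⟩
  obtain ⟨hs, hoff, hr, hd⟩ := basKey_facts i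
  have hS := Mult.short_of_check hs
  obtain ⟨h', e⟩ := el_smul hw hS
  have hsupp : Supp (⟨dec (basKey i), hS.1⟩ : leechLattice) := fun p hp => by
    have hp' : ptAt (pidx p) = p := ptEquiv.symm_apply_apply p
    exact hoff ⟨pidx p, pidx_lt p⟩ (by rw [hp']; exact hp)
  have hcol : ((matU ⟨el w, hm⟩ : Matrix (Fin 4 ⊕ Fin 4) (Fin 4 ⊕ Fin 4) (ZMod 2)).mulVec
      (Pi.single (eV.symm i) 1)) = Classical.OrthH1.dec eV (rcode (evalW w (basKey i))) := by
    rw [matU_mulVec, ← hd, ← hr, dec_rcode]
    have := act_kap ⟨el w, hm⟩ hsupp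
    rw [show ((⟨dec (basKey i), hS.1⟩ : leechLattice) : GolayPt → ℤ) = dec (basKey i) from rfl] at this
    rw [this, dec_rcode]
    exact congrArg (fun v : leechLattice => kap (res (v : GolayPt → ℤ))) e
  have := congrFun hcol a
  rw [Matrix.mulVec_single_one] at this
  rw [show (matU ⟨el w, hm⟩ : Matrix (Fin 4 ⊕ Fin 4) (Fin 4 ⊕ Fin 4) (ZMod 2)) a (eV.symm i) =
    Classical.OrthH1.dec eV (rcode (evalW w (basKey i))) a from this]
  simp [lM, rimg, Equiv.apply_symm_apply, i.isLt]

theorem rho_el_eq_one {w : List Atom} (hw : w.all (·.ok) = true) (hm : el w ∈ Cg)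
    (h : rimg w = (List.range 8).map (2 ^ ·)) : rho ⟨el w, hm⟩ = 1 := by
  rw [rho_eq_one]
  intro v
  obtain ⟨x, hx, rfl⟩ := exists_code eV v
  rw [act_el hw hm x, h]
  refine congrArg _ ?_
  have hall : ∀ y < 256, lN 8 ((List.range 8).map (2 ^ ·)) y = y := by decide +kernel
  exact hall x hx

end Cfsg.Lib.Leech.Co0Section
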